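import Cfsg.Agent.Classical.Misc.SLTwoTori
import Cfsg.Agent.Fusion.CyclicIndexTwoAut
import Cfsg.Agent.PGroups.AutTwoGroup

/-!
Elements with square `-1` in `SL 2` over a finite field of odd order, and its Sylow 2-subgroups.
-/

set_option autoImplicit false
set_option linter.unusedSectionVars false
set_option linter.unusedSimpArgs false

namespace Cfsg.Lib.Fusion.PSpTwo

open Matrix
open scoped MatrixGroups

variable {F : Type*} [Field F]

local notation "M2" => Matrix (Fin 2) (Fin 2) F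

theorem cayley (A : M2) : A * A = A.trace • A - A.det • (1 : M2) := by
  ext i j
  fin_cases i <;> fin_cases j <;>
    simp [Matrix.mul_apply, Matrix.trace_fin_two, Matrix.det_fin_two] <;> ring

theorem anticomm_eq {A B : M2} (hA : A.trace = 0) (hB : B.trace = 0) :
    A * B + B * A = (A * B).trace • (1 : M2) := by
  rw [Matrix.trace_fin_two] at hA hB
  have hA' := eq_neg_of_add_eq_zero_right hA
  have hB' := eq_neg_of_add_eq_zero_right hB
  ext i j
  fin_cases i <;> fin_cases j <;> simp [Matrix.mul_apply, Matrix.trace_fin_two, hA', hB'] <;> ring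

theorem coe_sq_neg {g : SL(2, F)} (hg : g * g = -1) : (g : M2) * g = -1 := by
  rw [← Matrix.SpecialLinearGroup.coe_mul, hg, Matrix.SpecialLinearGroup.coe_neg,
    Matrix.SpecialLinearGroup.coe_one]

theorem trace_eq_zero {g : SL(2, F)} (hg : g * g = -1) : (g : M2).trace = 0 := by
  have h := cayley (g : M2)
  rw [coe_sq_neg hg, g.2, one_smul] at h
  have h1 : (g : M2).trace • (g : M2) = 0 := by
    have h2 := congrArg (· + (1 : M2)) h
    simp only [sub_add_cancel, neg_add_cancel] at h2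
    exact h2.symm
  by_contra hne
  have h3 := (smul_eq_zero.mp h1).resolve_left hne
  have h4 := g.2
  rw [h3, Matrix.det_zero] at h4
  exact zero_ne_one h4

theorem isUnit_of_det_one (g : SL(2, F)) : IsUnit (g : M2) :=
  (Matrix.isUnit_iff_isUnit_det _).mpr (by rw [g.2]; exact isUnit_one)

variable (h2 : (2 : F) ≠ 0)

include h2

theorem trace_zero_comm {A B : M2} {i : SL(2, F)} (hi : i * i = -1) (hA : A.trace = 0) (hc : A * i = i * A)
    (hB : B = A * (i : M2)) : A = (-(B.trace / 2)) • (i : M2) := by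
  subst hB
  have h := anticomm_eq hA (trace_eq_zero hi)
  rw [← hc] at h
  have h3 : A * (i : M2) = ((A * (i : M2)).trace / 2) • (1 : M2) := by
    rw [div_eq_inv_mul, ← smul_smul, ← h, ← two_smul F (A * (i : M2)), inv_smul_smul₀ h2]
  calc A = A * (-((i : M2) * i)) := by rw [coe_sq_neg hi, neg_neg, mul_one]
    _ = -(A * i * i) := by rw [mul_neg, ← mul_assoc]
    _ = _ := by conv_lhs => rw [h3]
                rw [smul_mul_assoc, one_mul, neg_smul]

/-- Only scalars commute with two noncommuting elements of square `-1`. -/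
theorem scalar_of_comm {X : M2} {i j : SL(2, F)} (hi : i * i = -1) (hj : j * j = -1) (hij : i * j ≠ j * i)
    (hXi : X * i = i * X) (hXj : X * j = j * X) : X = (X.trace / 2) • (1 : M2) := by
  set P := X - (X.trace / 2) • (1 : M2) with hP
  have htr : P.trace = 0 := by
    rw [hP, Matrix.trace_sub, Matrix.trace_smul, Matrix.trace_one, Fintype.card_fin, smul_eq_mul]
    push_cast
    rw [div_mul_cancel₀ _ h2, sub_self]
  have hPi : P * i = i * P := by rw [hP, sub_mul, mul_sub, hXi, smul_mul_assoc, mul_smul_comm, one_mul, mul_one]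
  have hPj : P * j = j * P := by rw [hP, sub_mul, mul_sub, hXj, smul_mul_assoc, mul_smul_comm, one_mul, mul_one]
  have e1 := trace_zero_comm h2 hi htr hPi rfl
  have e2 := trace_zero_comm h2 hj htr hPj rfl
  set β := -((P * (i : M2)).trace / 2)
  by_cases hβ : β = 0
  · rw [hβ, zero_smul] at e1
    exact sub_eq_zero.mp e1
  · exfalso
    rw [e1, smul_mul_assoc, mul_smul_comm] at hPj
    exact hij (Subtype.ext (smul_right_injective _ hβ hPj :))

variable [Fintype F]

/-- Any two elements of square `-1` are conjugate. -/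
theorem exists_conj_companion {g : SL(2, F)} (hg : g * g = -1) :
    ∃ P : SL(2, F), (g : M2) * (P : M2) = (P : M2) * !![0, -1; 1, 0] := by
  have htr := trace_eq_zero hg
  rw [Matrix.trace_fin_two] at htr
  have hdet : (g : M2).det = 1 := g.2
  rw [Matrix.det_fin_two] at hdet
  obtain ⟨x, y, hxy⟩ : ∃ x y : F,
      x * ((g : M2) 1 0 * x + (g : M2) 1 1 * y) - y * ((g : M2) 0 0 * x + (g : M2) 0 1 * y) = 1 := by
    by_cases h10 : (g : M2) 1 0 = 0
    · have h00 : (g : M2) 0 0 ≠ 0 := fun h => by rw [h, h10] at hdet; simp at hdet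
      refine ⟨-(1 + (g : M2) 0 1) / (2 * (g : M2) 0 0), 1, ?_⟩
      rw [h10, eq_neg_of_add_eq_zero_right htr]
      field_simp
      ring
    · have hR : Fintype.card F % 2 = 1 := FiniteField.odd_card_of_char_ne_two fun hc => h2 (by
        have := ringChar.Nat.cast_ringChar (R := F)
        rw [hc] at this
        exact_mod_cast this)
      set a := (g : M2) 1 0
      obtain ⟨w, y, hwy⟩ := FiniteField.exists_root_sum_quadratic
        (f := (Polynomial.C a * Polynomial.X ^ 2 : Polynomial F))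
        (g := Polynomial.C a⁻¹ * Polynomial.X ^ 2 - Polynomial.C 1)
        (Polynomial.degree_C_mul_X_pow 2 h10) (by
          rw [Polynomial.degree_sub_eq_left_of_degree_lt] <;>
            rw [Polynomial.degree_C_mul_X_pow 2 (inv_ne_zero h10)]
          · rfl
          exact lt_of_le_of_lt Polynomial.degree_C_le (by norm_num)) hR
      simp only [Polynomial.eval_mul, Polynomial.eval_C, Polynomial.eval_pow, Polynomial.eval_X,
        Polynomial.eval_sub] at hwy
      refine ⟨w + (g : M2) 0 0 / a * y, y, ?_⟩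
      rw [eq_neg_of_add_eq_zero_right htr] at hdet ⊢
      have hb : (g : M2) 0 1 = -(1 + (g : M2) 0 0 * (g : M2) 0 0) / a := by
        rw [eq_div_iff h10]; linear_combination -hdet
      rw [hb]
      field_simp at hwy ⊢
      linear_combination hwy
  refine ⟨⟨!![x, (g : M2) 0 0 * x + (g : M2) 0 1 * y; y, (g : M2) 1 0 * x + (g : M2) 1 1 * y], by
    rw [Matrix.det_fin_two]
    simp only [Matrix.of_apply, Matrix.cons_val', Matrix.cons_val_zero, Matrix.cons_val_one,
      Matrix.empty_val', Matrix.cons_val_fin_one]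
    linear_combination hxy⟩, ?_⟩
  ext r s
  fin_cases r <;> fin_cases s <;> simp [Matrix.mul_apply, Fin.sum_univ_two]
  · linear_combination (-x) * hdet + ((g : M2) 0 0 * x + (g : M2) 0 1 * y) * htr
  · linear_combination (-y) * hdet + ((g : M2) 1 0 * x + (g : M2) 1 1 * y) * htr

theorem exists_conj {g h : SL(2, F)} (hg : g * g = -1) (hh : h * h = -1) :
    ∃ x : SL(2, F), x * g * x⁻¹ = h := by
  obtain ⟨P, hP⟩ := exists_conj_companion h2 hg
  obtain ⟨R, hR⟩ := exists_conj_companion h2 hh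
  obtain ⟨C, hC⟩ : ∃ C : SL(2, F), (C : M2) = !![0, -1; 1, 0] :=
    ⟨⟨!![0, -1; 1, 0], by simp [Matrix.det_fin_two]⟩, rfl⟩
  have e1 : g * P = P * C := Subtype.ext (by
    rw [Matrix.SpecialLinearGroup.coe_mul, Matrix.SpecialLinearGroup.coe_mul, hC]; exact hP)
  have e2 : h * R = R * C := Subtype.ext (by
    rw [Matrix.SpecialLinearGroup.coe_mul, Matrix.SpecialLinearGroup.coe_mul, hC]; exact hR)
  refine ⟨R * P⁻¹, ?_⟩
  rw [eq_mul_inv_of_mul_eq e1, eq_mul_inv_of_mul_eq e2]
  group

omit [Fintype F] in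
theorem neg_one_ne_one : (-1 : SL(2, F)) ≠ 1 := fun h => by
  have h1 := congrArg (fun m : SL(2, F) => (m : M2) 0 0) h
  simp at h1
  exact h2 (by linear_combination -h1)

theorem sq_eq_one {g : SL(2, F)} (h : g * g = 1) : g = 1 ∨ g = -1 := by
  obtain ⟨p, hp⟩ := CharP.exists F
  have := Fact.mk (CharP.char_is_prime F p)
  refine or_iff_not_imp_left.mpr fun h1 => Cfsg.Lib.Classical.SLTwoTori.eq_neg_one p (fun e => h2 ?_) h1 h
  subst e
  exact_mod_cast CharP.cast_eq_zero F 2

/-- The Sylow 2-subgroup: its elements are products of two elements of square `-1`. -/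
theorem exists_quaternion (P : Sylow 2 SL(2, F)) :
    (∀ x ∈ (P : Subgroup SL(2, F)), ∃ a ∈ (P : Subgroup SL(2, F)), ∃ b ∈ (P : Subgroup SL(2, F)),
      a * a = -1 ∧ b * b = -1 ∧ x = a * b) ∧
    (∃ a ∈ (P : Subgroup SL(2, F)), ∃ b ∈ (P : Subgroup SL(2, F)), a * a = -1 ∧ b * b = -1 ∧ a * b ≠ b * a) ∧
    (IsPGroup 2 (MulAut (P : Subgroup SL(2, F))) ∨ Nat.card (P : Subgroup SL(2, F)) = 8) := by
  obtain ⟨p, hp⟩ := CharP.exists F
  have := Fact.mk (CharP.char_is_prime F p)
  have hp2 : p ≠ 2 := fun e => h2 (by subst e; exact_mod_cast CharP.cast_eq_zero F 2)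
  obtain ⟨k, hk, ⟨e⟩⟩ := Cfsg.Lib.Classical.SLTwoTori.sylow_two_quaternion p hp2 P
  obtain ⟨m, hm⟩ : ∃ m : ℕ, m + m = 2 ^ k := ⟨2 ^ (k - 1), by
    rw [← two_mul, ← pow_succ', Nat.sub_add_cancel hk]⟩
  have : NeZero (2 ^ k) := ⟨pow_ne_zero _ two_ne_zero⟩
  set N : ZMod (2 * 2 ^ k) := ((2 ^ k : ℕ) : ZMod (2 * 2 ^ k))
  have hN : N ≠ 0 := fun h => by
    have h1 := Nat.le_of_dvd (Nat.two_pow_pos k) ((ZMod.natCast_eq_zero_iff _ _).mp h)
    have := Nat.two_pow_pos k
    omega
  have hN2 : N + N = 0 := by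
    rw [← Nat.cast_add, ← two_mul, ZMod.natCast_self]
  have hM : (m : ZMod (2 * 2 ^ k)) + m = N := by rw [← Nat.cast_add, hm]
  have hneg : -N = N := neg_eq_of_add_eq_zero_left hN2
  have hsq : ∀ y : QuaternionGroup (2 ^ k), y * y = QuaternionGroup.a N →
      ((e.symm y : SL(2, F)) * e.symm y) = -1 := by
    intro y hy
    have h1 : y * y ≠ 1 := by
      rw [hy, QuaternionGroup.one_def]
      intro h
      exact hN (QuaternionGroup.a.inj h)
    have h4 : (y * y) * (y * y) = 1 := by rw [hy, QuaternionGroup.a_mul_a, hN2]; rfl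
    refine (sq_eq_one h2 ?_).resolve_left fun h => h1 (e.symm.injective (Subtype.ext ?_))
    · have := congrArg (fun z => (e.symm z : SL(2, F))) h4
      simpa using this
    · simpa using h
  have hxa : ∀ j : ZMod (2 * 2 ^ k), (QuaternionGroup.xa j) * QuaternionGroup.xa j = QuaternionGroup.a N := by
    intro j
    rw [QuaternionGroup.xa_mul_xa, add_sub_cancel_right]
  have hfac : ∀ y : QuaternionGroup (2 ^ k), ∃ a b : QuaternionGroup (2 ^ k),
      a * a = QuaternionGroup.a N ∧ b * b = QuaternionGroup.a N ∧ y = a * b := by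
    rintro (c | c)
    · refine ⟨QuaternionGroup.xa 0, QuaternionGroup.xa (c - N), hxa _, hxa _, ?_⟩
      rw [QuaternionGroup.xa_mul_xa]
      congr 1
      ring
    · refine ⟨QuaternionGroup.a (m : ZMod (2 * 2 ^ k)), QuaternionGroup.xa (c + m), ?_, hxa _, ?_⟩
      · rw [QuaternionGroup.a_mul_a, hM]
      · rw [QuaternionGroup.a_mul_xa, add_sub_cancel_right]
  have hprod : ∀ x ∈ (P : Subgroup SL(2, F)), ∃ a ∈ (P : Subgroup SL(2, F)), ∃ b ∈ (P : Subgroup SL(2, F)),
      a * a = -1 ∧ b * b = -1 ∧ x = a * b := by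
    intro x hx
    obtain ⟨a, b, ha, hb, hab⟩ := hfac (e ⟨x, hx⟩)
    refine ⟨e.symm a, SetLike.coe_mem _, e.symm b, SetLike.coe_mem _, hsq a ha, hsq b hb, ?_⟩
    rw [← Subgroup.coe_mul, ← map_mul, ← hab, e.symm_apply_apply]
  refine ⟨hprod, ?_, ?_⟩
  · refine ⟨e.symm (QuaternionGroup.a (m : ZMod (2 * 2 ^ k))), SetLike.coe_mem _, e.symm (QuaternionGroup.xa 0),
      SetLike.coe_mem _, hsq _ (by rw [QuaternionGroup.a_mul_a, hM]), hsq _ (hxa 0), fun h => ?_⟩
    rw [← Subgroup.coe_mul, ← Subgroup.coe_mul, ← map_mul, ← map_mul, QuaternionGroup.a_mul_xa,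
      QuaternionGroup.xa_mul_a] at h
    have h' := QuaternionGroup.xa.inj (e.symm.injective (Subtype.ext h))
    refine hN ?_
    rw [← hM]
    linear_combination -h'
  · rcases Nat.lt_or_ge k 2 with hlt | hge
    · obtain rfl : k = 1 := by omega
      exact Or.inr (by rw [Nat.card_congr e.toEquiv, Nat.card_eq_fintype_card, QuaternionGroup.card]; rfl)
    · exact Or.inl (Cfsg.Lib.MetaTwo.isPGroup_mulAut_congr e.symm (Cfsg.Lib.Fusion.isPGroup_mulAut_quaternion hge))

end Cfsg.Lib.Fusion.PSpTwo
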