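import Cfsg.Agent.Fusion.PSpTwo.Elements
import Cfsg.Agent.Fusion.SimpleGroup

/-!
Strongly closed subgroups of the standard Sylow 2-subgroup of `PSp 4`, odd order field.
-/

set_option autoImplicit false
set_option linter.unusedSectionVars false
set_option linter.unusedSimpArgs false

namespace Cfsg.Lib.Fusion.PSpTwo

open Matrix Cfsg Cfsg.FusionSystem
open scoped MatrixGroups

variable {F : Type*} [Field F] [Fintype F]

local notation "M2" => Matrix (Fin 2) (Fin 2) F
local notation "Sp4" => Matrix.symplecticGroup (Fin 2) F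
local notation "P4" => Matrix.symplecticGroup (Fin 2) F ⧸ Subgroup.center (Matrix.symplecticGroup (Fin 2) F)
local notation "π'" => QuotientGroup.mk' (Subgroup.center (Matrix.symplecticGroup (Fin 2) F))

theorem two_ne_zero_of_odd (hodd : Fintype.card F % 2 = 1) : (2 : F) ≠ 0 := Ring.two_ne_zero fun hc => by
  have := FiniteField.even_card_of_char_two hc
  omega

/-- Commuting modulo sign. -/
def ProjComm (x y : Sp4) : Prop := x * y = y * x ∨ x * y = negOne F * (y * x)

variable (hodd : Fintype.card F % 2 = 1)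

include hodd

theorem eq_or_of_mk_eq {x y : Sp4} (h : π' x = π' y) : y = x ∨ y = negOne F * x := by
  have h1 : x⁻¹ * y ∈ Subgroup.center Sp4 := QuotientGroup.eq.mp h
  rcases center_cases hodd h1 with e | e
  · exact Or.inl (inv_mul_eq_one.mp e).symm
  · refine Or.inr ?_
    rw [inv_mul_eq_iff_eq_mul] at e
    rw [e]
    exact Subgroup.mem_center_iff.mp negOne_mem_center x

theorem projComm_of_mk_comm {x y : Sp4} (h : π' x * π' y = π' y * π' x) : ProjComm x y := by
  rw [← map_mul, ← map_mul] at h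
  exact eq_or_of_mk_eq hodd h.symm

theorem negOne_mem_big (Q : Sylow 2 SL(2, F)) : negOne F ∈ big (Q : Subgroup SL(2, F)) := by
  obtain ⟨a, ha, -, -, ha2, -, -⟩ := (exists_quaternion (two_ne_zero_of_odd hodd) Q).2.1
  have h1 : (-1 : SL(2, F)) ∈ (Q : Subgroup SL(2, F)) := ha2 ▸ mul_mem ha ha
  exact dd_mem_big h1 h1

theorem mk_mem_map_iff (Q : Sylow 2 SL(2, F)) {g : Sp4} :
    π' g ∈ (big (Q : Subgroup SL(2, F))).map π' ↔ g ∈ big (Q : Subgroup SL(2, F)) := by
  refine ⟨?_, fun h => Subgroup.mem_map_of_mem _ h⟩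
  rintro ⟨x, hx, he⟩
  rcases eq_or_of_mk_eq hodd he with rfl | rfl
  · exact hx
  · exact mul_mem (negOne_mem_big hodd Q) hx

/-- The elements central modulo sign. -/
theorem central_cases (Q : Sylow 2 SL(2, F)) {g : Sp4} (hg : g ∈ big (Q : Subgroup SL(2, F)))
    (hc : ∀ h ∈ big (Q : Subgroup SL(2, F)), ProjComm g h) :
    g = 1 ∨ g = negOne F ∨ g = dd (-1) 1 ∨ g = dd 1 (-1) := by
  have h2 := two_ne_zero_of_odd hodd
  obtain ⟨-, ⟨i, hi, j, hj, hi2, hj2, hij⟩, -⟩ := exists_quaternion h2 Q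
  have hi1 : i ≠ 1 ∧ i ≠ -1 := by
    constructor <;> rintro rfl <;> simp at hi2 <;>
      exact neg_one_ne_one h2 hi2.symm
  have hne : ∀ b : SL(2, F), b ≠ -1 * b := fun b h =>
    neg_one_ne_one h2 (mul_right_cancel (a := (-1 : SL(2, F))) (b := b) (by rw [one_mul]; exact h.symm))
  have hsc : ∀ x : SL(2, F), x * i = i * x → x * j = j * x → x = 1 ∨ x = -1 := fun x hxi hxj => by
    refine sq_eq_one h2 (Subtype.ext ?_)
    have e := scalar_of_comm h2 hi2 hj2 hij (X := (x : M2)) (congrArg Subtype.val hxi)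
      (congrArg Subtype.val hxj)
    have hd := x.2
    rw [e, Matrix.det_smul, Matrix.det_one, mul_one, Fintype.card_fin] at hd
    rw [Matrix.SpecialLinearGroup.coe_mul, Matrix.SpecialLinearGroup.coe_one, e, smul_mul_smul_comm,
      one_mul, ← sq, hd, one_smul]
  obtain ⟨a, ha, b, hb, rfl | rfl⟩ := hg
  · have hcomm : ∀ x ∈ (Q : Subgroup SL(2, F)), a * x = x * a ∧ b * x = x * b := fun x hx => by
      constructor
      · rcases hc _ (dd_mem_big hx (one_mem _)) with h | h
        · rw [dd_mul, dd_mul] at h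
          exact (dd_inj h).1
        · rw [dd_mul, dd_mul, negOne, dd_mul, mul_one, one_mul] at h
          exact absurd (dd_inj h).2 (hne b)
      · rcases hc _ (dd_mem_big (one_mem _) hx) with h | h
        · rw [dd_mul, dd_mul] at h
          exact (dd_inj h).2
        · rw [dd_mul, dd_mul, negOne, dd_mul, mul_one, one_mul] at h
          exact absurd (dd_inj h).1 (hne a)
    rcases hsc a (hcomm i hi).1 (hcomm j hj).1 with rfl | rfl <;>
      rcases hsc b (hcomm i hi).2 (hcomm j hj).2 with rfl | rfl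
    · exact Or.inl dd_one
    · exact Or.inr (Or.inr (Or.inr rfl))
    · exact Or.inr (Or.inr (Or.inl rfl))
    · exact Or.inr (Or.inl rfl)
  · exfalso
    rcases hc _ (dd_mem_big hi (one_mem _)) with h | h
    · rw [mul_assoc, sw_dd, ← mul_assoc, ← mul_assoc, dd_mul, dd_mul] at h
      have := (dd_inj (mul_right_cancel h)).1
      rw [mul_one] at this
      exact hi1.1 (mul_right_cancel (b := a) (by rw [one_mul]; exact this.symm))
    · rw [mul_assoc, sw_dd, ← mul_assoc, ← mul_assoc, ← mul_assoc, dd_mul, negOne, dd_mul, dd_mul] at h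
      have := (dd_inj (mul_right_cancel h)).1
      rw [mul_one] at this
      refine hi1.2 (mul_right_cancel (b := a) ?_)
      simp only [neg_mul, one_mul] at this ⊢
      exact neg_eq_iff_eq_neg.mp this.symm

theorem eq_of_stronglyClosed (Q : Sylow 2 SL(2, F)) (S : Sylow 2 P4)
    (hS : (S : Subgroup P4) = (big (Q : Subgroup SL(2, F))).map π') {T : Subgroup P4}
    (hT : (groupFusionSystem (S : Subgroup P4)).StronglyClosed T) (hne : T ≠ ⊥) :
    T = (S : Subgroup P4) := by
  refine le_antisymm hT.1 ?_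
  have h2 := two_ne_zero_of_odd hodd
  obtain ⟨hprod, ⟨i, hi, -, -, hi2, -, -⟩, -⟩ := exists_quaternion h2 Q
  have hm : ∀ x g : Sp4, π' x ∈ T → g * x * g⁻¹ ∈ big (Q : Subgroup SL(2, F)) →
      π' (g * x * g⁻¹) ∈ T := fun x g hxT hgx => by
    have hgS : π' g * π' x * (π' g)⁻¹ ∈ (S : Subgroup P4) := by
      rw [← map_inv, ← map_mul, ← map_mul, hS]
      exact Subgroup.mem_map_of_mem _ hgx
    have h1 := stronglyClosed_apply hT (P := Subgroup.zpowers (π' x)) (f := fun y => π' g * y * (π' g)⁻¹)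
      (isMap_group_iff.mpr ⟨Subgroup.zpowers_le.mpr (hT.1 hxT), by
        rintro y ⟨k, rfl⟩
        show π' g * (π' x) ^ k * (π' g)⁻¹ ∈ _
        rw [← _root_.conj_zpow]
        exact zpow_mem hgS k, π' g, fun _ _ => rfl⟩) (Subgroup.mem_zpowers _) hxT
    rwa [map_mul, map_mul, map_inv]
  set T' := T.comap π' with hT'
  have hz : dd (-1) 1 ∈ T' := by
    have : (T.subgroupOf (S : Subgroup P4)).Normal :=
      (Subgroup.normal_subgroupOf_iff_le_normalizer hT.1).mpr (normalizes_of_stronglyClosed hT)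
    obtain ⟨z, hzT, hzC, hz1⟩ := Cfsg.Lib.PGroups.exists_mem_center_of_normal_ne_bot S.2
      (N := T.subgroupOf (S : Subgroup P4)) (by
        rw [Ne, Subgroup.subgroupOf_eq_bot, disjoint_iff, inf_eq_left.mpr hT.1]
        exact hne)
    have hzne : (z : P4) ≠ 1 := fun e => Nat.prime_two.ne_one (by
      rw [← hz1, orderOf_eq_one_iff.mpr (Subtype.ext e)])
    obtain ⟨g, hg, hgz⟩ : (z : P4) ∈ (big (Q : Subgroup SL(2, F))).map π' := hS ▸ z.2
    have hgT : π' g ∈ T := hgz ▸ Subgroup.mem_subgroupOf.mp hzT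
    rcases central_cases hodd Q hg fun h hh => projComm_of_mk_comm hodd (by
      rw [hgz]
      exact (congrArg Subtype.val
        (Subgroup.mem_center_iff.mp hzC ⟨π' h, hS.symm ▸ Subgroup.mem_map_of_mem _ hh⟩)).symm)
      with e | e | e | e <;> subst e
    · exact absurd (by rw [← hgz, map_one]) hzne
    · exact absurd (by rw [← hgz]; exact (QuotientGroup.eq_one_iff _).mpr negOne_mem_center) hzne
    · exact hgT
    · show π' (dd (-1) 1) ∈ T
      rw [show dd (-1 : SL(2, F)) 1 = negOne F * dd 1 (-1) by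
        rw [negOne, dd_mul, mul_one, neg_mul_neg, one_mul], map_mul,
        show π' (negOne F) = 1 from (QuotientGroup.eq_one_iff _).mpr negOne_mem_center, one_mul]
      exact hgT
  have hm1 : negOne F ∈ T' := by
    show π' _ ∈ T
    rw [show π' (negOne F) = 1 from (QuotientGroup.eq_one_iff _).mpr negOne_mem_center]
    exact one_mem T
  have hconj : ∀ x ∈ T', ∀ g : Sp4, g * x * g⁻¹ ∈ big (Q : Subgroup SL(2, F)) → g * x * g⁻¹ ∈ T' :=
    fun x hx g h => hm x g hx h
  have hsw : sw F ∈ T' := by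
    have hu : tens !![(2 : F), 0; 0, 1] ((2 : F)⁻¹ • !![1, 1; 1, -1]) ∈ symplecticGroup (Fin 2) F := by
      refine tens_mem (ν := (2 : F)⁻¹) ?_ (by simp [h2])
      ext r s
      fin_cases r <;> fin_cases s <;> simp [Matrix.mul_apply, Fin.sum_univ_two] <;> field_simp <;> ring
    set u : Sp4 := ⟨_, hu⟩
    have e : u * dd 1 (-1) = sw F * u := Subtype.ext (by
      rw [Submonoid.coe_mul, Submonoid.coe_mul, coe_dd_neg]
      show tens _ _ * tens _ _ = tens 1 _ * tens _ _
      rw [tens_mul, tens_mul, Matrix.SpecialLinearGroup.coe_one, mul_one, one_mul]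
      congr 1
      ext r s
      fin_cases r <;> fin_cases s <;> simp [Matrix.mul_apply, Fin.sum_univ_two])
    have h1 : dd 1 (-1) ∈ T' := by
      have := mul_mem hm1 hz
      rwa [negOne, dd_mul, mul_one, neg_mul_neg, one_mul] at this
    have h3 : u * dd 1 (-1) * u⁻¹ = sw F := by rw [e, mul_inv_cancel_right]
    exact h3 ▸ hconj _ h1 u (h3.symm ▸ sw_mem_big _)
  have hinv : ∀ a ∈ (Q : Subgroup SL(2, F)), dd a a⁻¹ ∈ T' := fun a ha => by
    have h1 : dd 1 a⁻¹ * sw F * (dd 1 a⁻¹)⁻¹ = dd a⁻¹⁻¹ a⁻¹ * sw F := by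
      rw [dd_inv, inv_one, mul_assoc, sw_dd, ← mul_assoc, dd_mul, mul_one, one_mul]
    have h3 := hconj _ hsw (dd 1 a⁻¹) (h1 ▸ mul_mem (dd_mem_big (by simpa using ha) (inv_mem ha)) (sw_mem_big _))
    rw [h1, inv_inv] at h3
    simpa [mul_assoc, sw_sq] using mul_mem h3 hsw
  have hkk : ∀ k ∈ (Q : Subgroup SL(2, F)), ∀ k' ∈ (Q : Subgroup SL(2, F)),
      k * k = -1 → k' * k' = -1 → dd k k' ∈ T' := fun k hk k' hk' hk2 hk2' => by
    obtain ⟨x, hx⟩ := exists_conj h2 hi2 hk2
    obtain ⟨y, hy⟩ := exists_conj h2 (g := i⁻¹) (by rw [inv_eq_neg hi2, neg_mul_neg, hi2]) hk2'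
    have h1 : dd x y * dd i i⁻¹ * (dd x y)⁻¹ = dd k k' := by rw [dd_inv, dd_mul, dd_mul, hx, hy]
    exact h1 ▸ hconj _ (hinv i hi) (dd x y) (h1.symm ▸ dd_mem_big hk hk')
  have hneg : (-1 : SL(2, F)) ∈ (Q : Subgroup SL(2, F)) := hi2 ▸ mul_mem hi hi
  have hone : ∀ x ∈ (Q : Subgroup SL(2, F)), dd 1 x ∈ T' := fun x hx => by
    obtain ⟨a, ha, b, hb, ha2, hb2, hab⟩ := hprod _ (show -1 * x ∈ _ from mul_mem hneg hx)
    have h1 := mul_mem hm1 (mul_mem (hkk a ha a ha ha2 ha2) (hkk a ha b hb ha2 hb2))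
    rwa [negOne, dd_mul, dd_mul, ha2, ← hab, ← mul_assoc, neg_mul_neg, one_mul, one_mul] at h1
  rw [hS]
  rintro _ ⟨g, ⟨a, ha, b, hb, he⟩, rfl⟩
  have hab : dd a b ∈ T' := by
    have h1 : dd a 1 ∈ T' := by
      have h3 : sw F * dd 1 a * (sw F)⁻¹ = dd a 1 := by rw [sw_dd, mul_inv_cancel_right]
      exact h3 ▸ hconj _ (hone a ha) _ (h3.symm ▸ dd_mem_big ha (one_mem _))
    simpa [dd_mul] using mul_mem h1 (hone b hb)
  rcases he with rfl | rfl
  · exact hab
  · exact mul_mem hab hsw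

end Cfsg.Lib.Fusion.PSpTwo
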