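import Cfsg.Agent.Fusion.PSpTwo.Quaternion
import Cfsg.Agent.Classical.Symp.Matrix

/-!
Tensor shaped elements of `Sp 4` and the standard Sylow 2-subgroup for odd order fields.
-/

set_option autoImplicit false
set_option linter.unusedSectionVars false
set_option linter.unusedSimpArgs false

namespace Cfsg.Lib.Fusion.PSpTwo

open Matrix
open scoped MatrixGroups

variable {F : Type*} [Field F]

local notation "M2" => Matrix (Fin 2) (Fin 2) F
local notation "M4" => Matrix (Fin 2 ⊕ Fin 2) (Fin 2 ⊕ Fin 2) F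
local notation "Sp4" => Matrix.symplecticGroup (Fin 2) F

/-- The Kronecker product in block shape. -/
def tens (Y H : M2) : M4 := fromBlocks (Y 0 0 • H) (Y 0 1 • H) (Y 1 0 • H) (Y 1 1 • H)

theorem tens_mul (Y H Y' H' : M2) : tens Y H * tens Y' H' = tens (Y * Y') (H * H') := by
  simp [tens, fromBlocks_multiply, smul_smul, add_smul, Matrix.mul_apply, Fin.sum_univ_two, mul_comm]

theorem tens_one (c : F) (H : M2) : tens (c • (1 : M2)) H = fromBlocks (c • H) 0 0 (c • H) := by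
  simp [tens]

theorem tens_smul_one (c d : F) : tens (c • (1 : M2)) (d • (1 : M2)) = (c * d) • (1 : M4) := by
  simp [tens, smul_smul, ← fromBlocks_one, fromBlocks_smul]

theorem tens_mem {Y H : M2} {ν : F} (hH : Hᵀ * H = ν • (1 : M2)) (hY : Y.det * ν = 1) :
    tens Y H ∈ symplecticGroup (Fin 2) F := by
  rw [Matrix.det_fin_two] at hY
  refine SymplecticGroup.fromBlocks_mem_iff.mpr ⟨?_, ?_, ?_⟩ <;>
    simp only [transpose_smul, smul_mul_smul_comm, hH, smul_smul, ← sub_smul]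
  · congr 1; ring
  · congr 1; ring
  · rw [show Y 0 0 * Y 1 1 * ν - Y 1 0 * Y 0 1 * ν = 1 by linear_combination hY, one_smul]

/-- The two commuting copies of `SL 2`. -/
def ddHom : SL(2, F) × SL(2, F) →* Sp4 where
  toFun p := ⟨fromBlocks (diagonal ![p.1.1 0 0, p.2.1 0 0]) (diagonal ![p.1.1 0 1, p.2.1 0 1])
      (diagonal ![p.1.1 1 0, p.2.1 1 0]) (diagonal ![p.1.1 1 1, p.2.1 1 1]),
    SymplecticGroup.fromBlocks_mem_iff.mpr ⟨by simp [diagonal_mul_diagonal, mul_comm],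
      by simp [diagonal_mul_diagonal, mul_comm], by
        simp only [diagonal_transpose, diagonal_mul_diagonal, diagonal_sub]
        rw [← diagonal_one]
        refine congrArg diagonal (funext fun k => ?_)
        have h1 : p.1.1 0 0 * p.1.1 1 1 - p.1.1 0 1 * p.1.1 1 0 = 1 := by
          rw [← Matrix.det_fin_two]; exact p.1.2
        have h2 : p.2.1 0 0 * p.2.1 1 1 - p.2.1 0 1 * p.2.1 1 0 = 1 := by
          rw [← Matrix.det_fin_two]; exact p.2.2
        fin_cases k <;> simp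
        · linear_combination h1
        · linear_combination h2⟩⟩
  map_one' := Subtype.ext (by simp; ext i j; fin_cases i <;> fin_cases j <;> simp)
  map_mul' p q := Subtype.ext (by
    simp only [Submonoid.coe_mul, fromBlocks_multiply, diagonal_mul_diagonal, diagonal_add,
      Prod.fst_mul, Prod.snd_mul, Matrix.SpecialLinearGroup.coe_mul, Matrix.mul_apply, Fin.sum_univ_two]
    congr 1 <;> refine congrArg diagonal (funext fun k => ?_) <;> fin_cases k <;> simp)

/-- A block diagonal element. -/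
abbrev dd (a b : SL(2, F)) : Sp4 := ddHom (a, b)

theorem dd_mul (a b c d : SL(2, F)) : dd a b * dd c d = dd (a * c) (b * d) := (map_mul ddHom _ _).symm

theorem dd_inv (a b : SL(2, F)) : (dd a b)⁻¹ = dd a⁻¹ b⁻¹ := (map_inv ddHom _).symm

theorem dd_one : dd (1 : SL(2, F)) 1 = 1 := map_one ddHom

theorem coe_dd (a b : SL(2, F)) : (dd a b : M4) =
    fromBlocks (diagonal ![a.1 0 0, b.1 0 0]) (diagonal ![a.1 0 1, b.1 0 1])
      (diagonal ![a.1 1 0, b.1 1 0]) (diagonal ![a.1 1 1, b.1 1 1]) := rfl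

theorem coe_dd_diag (a : SL(2, F)) : (dd a a : M4) = tens (a : M2) 1 := by
  rw [coe_dd, tens, fromBlocks_inj]
  refine ⟨?_, ?_, ?_, ?_⟩ <;> ext i j <;> fin_cases i <;> fin_cases j <;> simp

theorem coe_dd_neg (a : SL(2, F)) : (dd a (-a) : M4) = tens (a : M2) !![1, 0; 0, -1] := by
  rw [coe_dd, tens, fromBlocks_inj]
  refine ⟨?_, ?_, ?_, ?_⟩ <;> ext i j <;> fin_cases i <;> fin_cases j <;> simp

theorem dd_inj {a b c d : SL(2, F)} (h : dd a b = dd c d) : a = c ∧ b = d := by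
  have h' := congrArg Subtype.val h
  rw [coe_dd, coe_dd, fromBlocks_inj] at h'
  obtain ⟨h00, h01, h10, h11⟩ := h'
  refine ⟨Subtype.ext ?_, Subtype.ext ?_⟩ <;> ext r s <;> fin_cases r <;> fin_cases s
  · simpa using congrFun (congrFun h00 0) 0
  · simpa using congrFun (congrFun h01 0) 0
  · simpa using congrFun (congrFun h10 0) 0
  · simpa using congrFun (congrFun h11 0) 0
  · simpa using congrFun (congrFun h00 1) 1
  · simpa using congrFun (congrFun h01 1) 1
  · simpa using congrFun (congrFun h10 1) 1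
  · simpa using congrFun (congrFun h11 1) 1

/-- The swap of the two copies. -/
def sw (F : Type*) [Field F] : Matrix.symplecticGroup (Fin 2) F :=
  ⟨tens 1 !![0, 1; 1, 0], tens_mem (ν := 1) (by ext i j; fin_cases i <;> fin_cases j <;> simp [Matrix.mul_apply, Fin.sum_univ_two]) (by simp)⟩

theorem coe_sw : (sw F : M4) = fromBlocks !![0, 1; 1, 0] 0 0 !![0, 1; 1, 0] := by
  show tens 1 _ = _
  simp [tens]

theorem sw_sq : sw F * sw F = 1 := Subtype.ext (by
  rw [Submonoid.coe_mul, coe_sw, fromBlocks_multiply, OneMemClass.coe_one, ← fromBlocks_one, fromBlocks_inj]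
  simp
  ext i j; fin_cases i <;> fin_cases j <;> simp)

theorem sw_dd (a b : SL(2, F)) : sw F * dd a b = dd b a * sw F := Subtype.ext (by
  rw [Submonoid.coe_mul, Submonoid.coe_mul, coe_sw, coe_dd, coe_dd, fromBlocks_multiply, fromBlocks_multiply,
    fromBlocks_inj]
  simp only [Matrix.zero_mul, Matrix.mul_zero, add_zero, zero_add]
  refine ⟨?_, ?_, ?_, ?_⟩ <;> ext i j <;> fin_cases i <;> fin_cases j <;>
    simp [Matrix.mul_apply, Fin.sum_univ_two])

theorem sw_inv : (sw F)⁻¹ = sw F := inv_eq_of_mul_eq_one_right sw_sq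

theorem dd_ne_dd_sw (a b c d : SL(2, F)) : dd a b ≠ dd c d * sw F := by
  intro h
  have h' := congrArg Subtype.val h
  rw [Submonoid.coe_mul, coe_sw, coe_dd, coe_dd, fromBlocks_multiply, fromBlocks_inj] at h'
  obtain ⟨h00, h01, h10, h11⟩ := h'
  have e1 : a.1 0 0 = 0 := by simpa [Matrix.mul_apply, Fin.sum_univ_two] using congrFun (congrFun h00 0) 0
  have e2 : a.1 1 0 = 0 := by simpa [Matrix.mul_apply, Fin.sum_univ_two] using congrFun (congrFun h10 0) 0
  have h1 := a.2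
  rw [Matrix.det_fin_two, e1, e2] at h1
  simp at h1

/-- Minus one. -/
abbrev negOne (F : Type*) [Field F] : Matrix.symplecticGroup (Fin 2) F := dd (-1) (-1)

theorem coe_negOne : (negOne F : M4) = -1 := by
  rw [negOne, coe_dd, ← fromBlocks_one, fromBlocks_neg, fromBlocks_inj]
  refine ⟨?_, ?_, ?_, ?_⟩ <;> ext i j <;> fin_cases i <;> fin_cases j <;> simp

theorem negOne_mem_center : negOne F ∈ Subgroup.center Sp4 :=
  Subgroup.mem_center_iff.mpr fun g => Subtype.ext (by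
    rw [Submonoid.coe_mul, Submonoid.coe_mul, coe_negOne, mul_neg, neg_mul, mul_one, one_mul])

theorem negOne_ne_one (h2 : (2 : F) ≠ 0) : negOne F ≠ 1 := fun h =>
  neg_one_ne_one h2 (dd_inj (h.trans dd_one.symm)).1

/-- The standard subgroup above a subgroup of `SL 2`. -/
def big (Q : Subgroup SL(2, F)) : Subgroup Sp4 where
  carrier := {g | ∃ a ∈ Q, ∃ b ∈ Q, g = dd a b ∨ g = dd a b * sw F}
  one_mem' := ⟨1, one_mem Q, 1, one_mem Q, Or.inl dd_one.symm⟩
  mul_mem' := by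
    rintro x y ⟨a, ha, b, hb, hx⟩ ⟨c, hc, d, hd, hy⟩
    rcases hx with rfl | rfl <;> rcases hy with rfl | rfl
    · exact ⟨_, mul_mem ha hc, _, mul_mem hb hd, Or.inl (dd_mul _ _ _ _)⟩
    · exact ⟨_, mul_mem ha hc, _, mul_mem hb hd, Or.inr (by rw [← mul_assoc, dd_mul])⟩
    · exact ⟨_, mul_mem ha hd, _, mul_mem hb hc, Or.inr (by rw [mul_assoc, sw_dd, ← mul_assoc, dd_mul])⟩
    · exact ⟨_, mul_mem ha hd, _, mul_mem hb hc, Or.inl (by
        rw [mul_assoc, ← mul_assoc (sw F), sw_dd, mul_assoc (dd d c), sw_sq, mul_one, dd_mul])⟩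
  inv_mem' := by
    rintro x ⟨a, ha, b, hb, rfl | rfl⟩
    · exact ⟨_, inv_mem ha, _, inv_mem hb, Or.inl (dd_inv _ _)⟩
    · exact ⟨_, inv_mem hb, _, inv_mem ha, Or.inr (by rw [_root_.mul_inv_rev, dd_inv, sw_inv, sw_dd])⟩

theorem dd_mem_big {Q : Subgroup SL(2, F)} {a b : SL(2, F)} (ha : a ∈ Q) (hb : b ∈ Q) : dd a b ∈ big Q :=
  ⟨a, ha, b, hb, Or.inl rfl⟩

theorem sw_mem_big (Q : Subgroup SL(2, F)) : sw F ∈ big Q :=
  ⟨1, one_mem Q, 1, one_mem Q, Or.inr (by rw [dd_one, one_mul])⟩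

theorem of_dd_mem_big {Q : Subgroup SL(2, F)} {a b : SL(2, F)} (h : dd a b ∈ big Q) : a ∈ Q ∧ b ∈ Q := by
  obtain ⟨c, hc, d, hd, h | h⟩ := h
  · obtain ⟨rfl, rfl⟩ := dd_inj h
    exact ⟨hc, hd⟩
  · exact absurd h (dd_ne_dd_sw _ _ _ _)

theorem of_dd_sw_mem_big {Q : Subgroup SL(2, F)} {a b : SL(2, F)} (h : dd a b * sw F ∈ big Q) :
    a ∈ Q ∧ b ∈ Q :=
  of_dd_mem_big (by simpa [mul_assoc, sw_sq] using mul_mem h (sw_mem_big Q))

theorem card_big (Q : Subgroup SL(2, F)) : Nat.card (big Q) = 2 * Nat.card Q ^ 2 := by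
  let f : (Q × Q) × Bool → big Q := fun p =>
    if p.2 then ⟨dd p.1.1 p.1.2 * sw F, mul_mem (dd_mem_big p.1.1.2 p.1.2.2) (sw_mem_big Q)⟩
    else ⟨dd p.1.1 p.1.2, dd_mem_big p.1.1.2 p.1.2.2⟩
  have hf : Function.Bijective f := by
    refine ⟨?_, ?_⟩
    · rintro ⟨⟨a, b⟩, _ | _⟩ ⟨⟨c, d⟩, _ | _⟩ h <;> simp only [f, Bool.false_eq_true, if_false, if_true,
        Subtype.mk.injEq] at h
      · obtain ⟨h1, h3⟩ := dd_inj h
        rw [Subtype.ext h1, Subtype.ext h3]
      · exact absurd h (dd_ne_dd_sw _ _ _ _)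
      · exact absurd h.symm (dd_ne_dd_sw _ _ _ _)
      · obtain ⟨h1, h3⟩ := dd_inj (mul_right_cancel h)
        rw [Subtype.ext h1, Subtype.ext h3]
    · rintro ⟨g, a, ha, b, hb, rfl | rfl⟩
      · exact ⟨((⟨a, ha⟩, ⟨b, hb⟩), false), rfl⟩
      · exact ⟨((⟨a, ha⟩, ⟨b, hb⟩), true), rfl⟩
  rw [← Nat.card_eq_of_bijective f hf, Nat.card_prod, Nat.card_prod, Nat.card_eq_fintype_card (α := Bool),
    Fintype.card_bool]
  ring

theorem center_cases [Fintype F] (hodd : Fintype.card F % 2 = 1) {g : Sp4}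
    (hg : g ∈ Subgroup.center Sp4) : g = 1 ∨ g = negOne F := by
  have h2 : (2 : F) ≠ 0 := Ring.two_ne_zero fun hc => by
    have := FiniteField.even_card_of_char_two hc
    omega
  have hc : Nat.card (Subgroup.center Sp4) = 2 := by
    rw [Cfsg.Lib.Classical.card_center_symplecticGroup (by norm_num), Nat.card_eq_fintype_card]
    have := Fintype.one_lt_card (α := F)
    exact Nat.gcd_eq_left (by omega)
  obtain ⟨x, y, hxy, huniv⟩ := Nat.card_eq_two_iff.mp hc
  have h : ∀ t : Subgroup.center Sp4, t = x ∨ t = y := fun t => by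
    have := huniv ▸ Set.mem_univ t
    simpa using this
  have hne : (⟨negOne F, negOne_mem_center⟩ : Subgroup.center Sp4) ≠ 1 := fun e =>
    negOne_ne_one h2 (congrArg Subtype.val e)
  rcases h ⟨g, hg⟩ with e | e <;> rcases h 1 with e1 | e1 <;>
    rcases h ⟨negOne F, negOne_mem_center⟩ with e2 | e2
  all_goals first
    | exact absurd (e2.trans e1.symm) hne
    | exact Or.inl (congrArg Subtype.val (e.trans e1.symm))
    | exact Or.inr (congrArg Subtype.val (e.trans e2.symm))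

/-- The standard subgroup above a Sylow 2-subgroup is a Sylow 2-subgroup. -/
theorem card_big_sylow [Fintype F] (hodd : Fintype.card F % 2 = 1) (Q : Sylow 2 SL(2, F)) :
    Nat.card (big (Q : Subgroup SL(2, F))) = 2 ^ (Nat.card Sp4).factorization 2 := by
  rw [card_big, Q.card_eq_multiplicity, Cfsg.Lib.Classical.SLTwoTori.card_SL2,
    Cfsg.Lib.Classical.card_symplecticGroup, Nat.card_eq_fintype_card]
  set q := Fintype.card F with hq
  have hq1 : 1 < q := Fintype.one_lt_card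
  obtain ⟨r, hr⟩ : ∃ r, q ^ 2 = r + 1 := ⟨q ^ 2 - 1, by have := Nat.one_le_pow 2 q (by omega); omega⟩
  have hq2 : q ^ 2 % 2 = 1 := by rw [Nat.pow_mod, hodd]
  have hr0 : 0 < r := by nlinarith
  obtain ⟨t, ht⟩ : ∃ t, r = 4 * t := by
    obtain ⟨k, hk⟩ : ∃ k, q = 2 * k + 1 := ⟨q / 2, by omega⟩
    exact ⟨k * k + k, by rw [hk] at hr; ring_nf at hr ⊢; omega⟩
  have e : q ^ (2 ^ 2) * ∏ i ∈ Finset.range 2, (q ^ (2 * (i + 1)) - 1) =
      (q * (q ^ 2 - 1)) ^ 2 * (2 * (q ^ 2 * (2 * t + 1))) := by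
    rw [Finset.prod_range_succ, Finset.prod_range_one, show 2 * (1 + 1) = 2 * 2 from rfl, pow_mul q 2 2,
      show 2 * (0 + 1) = 2 from rfl, mul_pow, hr, Nat.add_sub_cancel,
      show (r + 1) ^ 2 = r * (r + 2) + 1 by ring, Nat.add_sub_cancel, show (2 : ℕ) ^ 2 = 4 from rfl,
      show q ^ 4 = q ^ 2 * q ^ 2 by ring, hr, ht]
    ring
  rw [e]
  have hodd' : ¬ 2 ∣ q ^ 2 * (2 * t + 1) := by
    rw [Nat.dvd_iff_mod_eq_zero, Nat.mul_mod, hq2]; omega
  have hA : q * (q ^ 2 - 1) ≠ 0 := by rw [hr, Nat.add_sub_cancel]; positivity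
  have hB : q ^ 2 * (2 * t + 1) ≠ 0 := fun h => hodd' (h ▸ dvd_zero 2)
  rw [Nat.factorization_mul (pow_ne_zero _ hA) (mul_ne_zero two_ne_zero hB),
    Nat.factorization_mul two_ne_zero hB, Nat.factorization_pow]
  simp only [Finsupp.add_apply, Finsupp.smul_apply, smul_eq_mul, Nat.prime_two.factorization_self,
    Nat.factorization_eq_zero_of_not_dvd hodd', add_zero]
  ring

end Cfsg.Lib.Fusion.PSpTwo
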