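import Cfsg.Agent.Fusion.PSpTwo.Closed

/-!
The 2-fusion system of `PSp 4` over a field of odd order is simple.
-/

set_option autoImplicit false
set_option linter.unusedSectionVars false
set_option linter.unusedSimpArgs false

namespace Cfsg.Lib.Fusion.PSpTwo

open Matrix Cfsg Cfsg.FusionSystem
open scoped MatrixGroups

variable {F : Type*} [Field F] [Fintype F]

local notation "M2" => Matrix (Fin 2) (Fin 2) F
local notation "M4" => Matrix (Fin 2 ⊕ Fin 2) (Fin 2 ⊕ Fin 2) F
local notation "Sp4" => Matrix.symplecticGroup (Fin 2) F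
local notation "P4" => Matrix.symplecticGroup (Fin 2) F ⧸ Subgroup.center (Matrix.symplecticGroup (Fin 2) F)
local notation "π'" => QuotientGroup.mk' (Subgroup.center (Matrix.symplecticGroup (Fin 2) F))

/-- The generators of the local subgroup. -/
def radGens (Q : Subgroup SL(2, F)) : Set Sp4 :=
  (fun q => dd q q) '' (Q : Set SL(2, F)) ∪ {dd 1 (-1), sw F}

theorem mk_mem_normalizer {Q : Subgroup SL(2, F)} {g : Sp4}
    (h : ∀ x ∈ radGens Q, g * x * g⁻¹ ∈ Subgroup.closure (radGens Q)) :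
    π' g ∈ Subgroup.normalizer (((Subgroup.closure (radGens Q)).map π' : Subgroup P4) : Set P4) := by
  have h1 : Subgroup.closure (radGens Q) ≤
      (Subgroup.closure (radGens Q)).comap (MulAut.conj g).toMonoidHom :=
    (Subgroup.closure_le _).mpr fun x hx => h x hx
  refine mem_normalizer_of_maps_finite ?_
  rintro _ ⟨x, hx, rfl⟩
  exact ⟨_, h1 hx, by simp⟩

theorem sq_eq_one_of_comm (h2 : (2 : F) ≠ 0) {x i j : SL(2, F)} (hi : i * i = -1) (hj : j * j = -1)
    (hij : i * j ≠ j * i) (hxi : x * i = i * x) (hxj : x * j = j * x) : x * x = 1 := by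
  refine Subtype.ext ?_
  have e := scalar_of_comm h2 hi hj hij (X := (x : M2)) (congrArg Subtype.val hxi) (congrArg Subtype.val hxj)
  have hd := x.2
  rw [e, Matrix.det_smul, Matrix.det_one, mul_one, Fintype.card_fin] at hd
  rw [Matrix.SpecialLinearGroup.coe_mul, Matrix.SpecialLinearGroup.coe_one, e, smul_mul_smul_comm,
    one_mul, ← sq, hd, one_smul]

theorem mem_sylow_of_two_element (Q : Sylow 2 SL(2, F)) {a : SL(2, F)} {k : ℕ}
    (ha : a ∈ Subgroup.normalizer ((Q : Subgroup SL(2, F)) : Set SL(2, F))) (hk : a ^ 2 ^ k = 1) :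
    a ∈ (Q : Subgroup SL(2, F)) := by
  have hz : IsPGroup 2 (Subgroup.zpowers a) := fun ⟨x, n, hn⟩ => ⟨k, Subtype.ext (by
    subst hn
    show (a ^ n) ^ 2 ^ k = 1
    rw [← zpow_natCast, ← _root_.zpow_mul, mul_comm, _root_.zpow_mul, zpow_natCast, hk, _root_.one_zpow])⟩
  have h1 := Q.is_maximal' (hz.to_sup_of_normal_right' Q.2 (Subgroup.zpowers_le.mpr ha)) le_sup_right
  exact h1.le (Subgroup.mem_sup_left (Subgroup.mem_zpowers a))

variable (hodd : Fintype.card F % 2 = 1)

include hodd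

theorem block_of_commute {g : Sp4} (h : g * dd (-1) 1 = dd (-1) 1 * g) : ∃ a b, g = dd a b := by
  have h2 := two_ne_zero_of_odd hodd
  have h' := congrArg Subtype.val h
  rw [Submonoid.coe_mul, Submonoid.coe_mul, coe_dd, ← fromBlocks_toBlocks (g : M4), fromBlocks_multiply,
    fromBlocks_multiply, fromBlocks_inj] at h'
  obtain ⟨e00, e01, e10, e11⟩ := h'
  have key : ∀ X : M2, X * diagonal ![(-1 : F), 1] = diagonal ![(-1 : F), 1] * X →
      X = diagonal ![X 0 0, X 1 1] := fun X hX => by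
    have a01 := congrFun (congrFun hX 0) 1
    have a10 := congrFun (congrFun hX 1) 0
    simp [Matrix.mul_apply, Fin.sum_univ_two] at a01 a10
    have z01 : X 0 1 = 0 := (mul_eq_zero.mp (show 2 * X 0 1 = 0 by linear_combination a01)).resolve_left h2
    have z10 : X 1 0 = 0 := (mul_eq_zero.mp (show 2 * X 1 0 = 0 by linear_combination -a10)).resolve_left h2
    ext r s
    fin_cases r <;> fin_cases s <;> simp [z01, z10]
  have h0 : diagonal ![(0 : F), 0] = (0 : M2) := by ext r s; fin_cases r <;> fin_cases s <;> simp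
  simp only [Matrix.SpecialLinearGroup.coe_neg, Matrix.SpecialLinearGroup.coe_one, Matrix.neg_apply,
    Matrix.one_apply_eq, ne_eq, Fin.reduceEq, not_false_eq_true, Matrix.one_apply_ne, neg_zero, h0,
    mul_zero, zero_mul, add_zero, zero_add] at e00 e01 e10 e11
  have hA := key _ e00
  have hB := key _ e01
  have hC := key _ e10
  have hD := key _ e11
  set A := (g : M4).toBlocks₁₁
  set B := (g : M4).toBlocks₁₂
  set C := (g : M4).toBlocks₂₁
  set D := (g : M4).toBlocks₂₂
  have hg : (g : M4) = fromBlocks A B C D := (fromBlocks_toBlocks _).symm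
  have hmem := g.2
  rw [hg, SymplecticGroup.fromBlocks_mem_iff] at hmem
  have hdet := hmem.2.2
  rw [hA, hB, hC, hD] at hdet
  simp only [diagonal_transpose, diagonal_mul_diagonal, diagonal_sub] at hdet
  rw [← diagonal_one] at hdet
  have hdet' := diagonal_injective hdet
  obtain ⟨x, hx⟩ : ∃ x : SL(2, F), (x : M2) = !![A 0 0, B 0 0; C 0 0, D 0 0] := ⟨⟨_, by
      have := congrFun hdet' 0
      simp at this
      rw [Matrix.det_fin_two_of]
      linear_combination this⟩, rfl⟩
  obtain ⟨y, hy⟩ : ∃ y : SL(2, F), (y : M2) = !![A 1 1, B 1 1; C 1 1, D 1 1] := ⟨⟨_, by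
      have := congrFun hdet' 1
      simp at this
      rw [Matrix.det_fin_two_of]
      linear_combination this⟩, rfl⟩
  refine ⟨x, y, Subtype.ext ?_⟩
  rw [coe_dd, hg, hx, hy, fromBlocks_inj]
  exact ⟨by simpa using hA, by simpa using hB, by simpa using hC, by simpa using hD⟩

theorem normalizer_shape (Q : Sylow 2 SL(2, F)) {g : Sp4}
    (hg : π' g ∈ Subgroup.normalizer (((big (Q : Subgroup SL(2, F))).map π' : Subgroup P4) : Set P4)) :
    ∃ a ∈ Subgroup.normalizer ((Q : Subgroup SL(2, F)) : Set SL(2, F)),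
      ∃ h ∈ big (Q : Subgroup SL(2, F)), g = dd a a * h := by
  have h2 := two_ne_zero_of_odd hodd
  have hconj : ∀ h ∈ big (Q : Subgroup SL(2, F)), g * h * g⁻¹ ∈ big (Q : Subgroup SL(2, F)) := fun h hh =>
    (mk_mem_map_iff hodd Q).mp (by
      rw [map_mul, map_mul, map_inv]
      exact conj_mem_of_mem_normalizer hg (Subgroup.mem_map_of_mem _ hh))
  have hginv : ∀ h ∈ big (Q : Subgroup SL(2, F)), g⁻¹ * h * g ∈ big (Q : Subgroup SL(2, F)) := fun h hh =>
    (mk_mem_map_iff hodd Q).mp (by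
      have := conj_mem_of_mem_normalizer (inv_mem hg) (Subgroup.mem_map_of_mem π' hh)
      rw [inv_inv] at this
      rwa [map_mul, map_mul, map_inv])
  have hm1 : ∀ x : Sp4, negOne F * x = x * negOne F := fun x =>
    (Subgroup.mem_center_iff.mp negOne_mem_center x).symm
  obtain ⟨i0, hi0, -, -, hi02, -, -⟩ := (exists_quaternion h2 Q).2.1
  have hneg : (-1 : SL(2, F)) ∈ (Q : Subgroup SL(2, F)) := hi02 ▸ mul_mem hi0 hi0
  have hzmem : dd (-1) 1 ∈ big (Q : Subgroup SL(2, F)) := dd_mem_big hneg (one_mem _)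
  have hzc : ∀ h ∈ big (Q : Subgroup SL(2, F)), ProjComm (dd (-1) 1) h := by
    rintro _ ⟨a, -, b, -, rfl | rfl⟩
    · exact Or.inl (by rw [dd_mul, dd_mul, neg_one_mul, mul_neg_one, one_mul, mul_one])
    · refine Or.inr ?_
      rw [← mul_assoc, dd_mul, mul_assoc (dd a b), sw_dd, ← mul_assoc, ← mul_assoc, dd_mul, dd_mul]
      simp
  have hgz : ∀ h ∈ big (Q : Subgroup SL(2, F)), ProjComm (g * dd (-1) 1 * g⁻¹) h := fun h hh => by
    rcases hzc _ (hginv h hh) with e | e
    · left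
      calc g * dd (-1) 1 * g⁻¹ * h = g * (dd (-1) 1 * (g⁻¹ * h * g)) * g⁻¹ := by group
        _ = _ := by rw [e]; group
    · right
      calc g * dd (-1) 1 * g⁻¹ * h = g * (dd (-1) 1 * (g⁻¹ * h * g)) * g⁻¹ := by group
        _ = _ := by rw [e, ← mul_assoc g (negOne F), ← hm1 g]; group
  have hcases : g * dd (-1) 1 = dd (-1) 1 * g ∨ (g * sw F) * dd (-1) 1 = dd (-1) 1 * (g * sw F) := by
    rcases central_cases hodd Q (hconj _ hzmem) hgz with e | e | e | e
    · have : dd (-1 : SL(2, F)) 1 = 1 := conj_eq_one_iff.mp e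
      exact absurd (dd_inj (this.trans dd_one.symm)).1 (neg_one_ne_one h2)
    · rw [mul_inv_eq_iff_eq_mul, hm1] at e
      exact absurd (dd_inj (mul_left_cancel e)).2 (fun h => neg_one_ne_one h2 h.symm)
    · exact Or.inl (mul_inv_eq_iff_eq_mul.mp e)
    · refine Or.inr ?_
      rw [mul_inv_eq_iff_eq_mul] at e
      rw [mul_assoc g, sw_dd, ← mul_assoc, show dd (1 : SL(2, F)) (-1) = negOne F * dd (-1) 1 by
        rw [negOne, dd_mul, neg_mul_neg, one_mul, mul_one], ← mul_assoc g, ← hm1 g, mul_assoc (negOne F), e,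
        ← mul_assoc, ← mul_assoc, negOne, dd_mul, mul_one]
      simp
  obtain ⟨e, he, x, y, hge⟩ : ∃ e ∈ big (Q : Subgroup SL(2, F)), ∃ x y, g * e = dd x y := by
    rcases hcases with h | h
    · obtain ⟨x, y, hxy⟩ := block_of_commute hodd h
      exact ⟨1, one_mem _, x, y, by rw [mul_one, hxy]⟩
    · obtain ⟨x, y, hxy⟩ := block_of_commute hodd h
      exact ⟨sw F, sw_mem_big _, x, y, hxy⟩
  have hc2 : ∀ h ∈ big (Q : Subgroup SL(2, F)), dd x y * h * (dd x y)⁻¹ ∈ big (Q : Subgroup SL(2, F)) := fun h hh => by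
    have := hconj _ (mul_mem (mul_mem he hh) (inv_mem he))
    rw [← hge]
    simpa [mul_assoc] using this
  have hx : x ∈ Subgroup.normalizer ((Q : Subgroup SL(2, F)) : Set SL(2, F)) :=
    mem_normalizer_of_maps_finite fun q hq => by
      have := hc2 _ (dd_mem_big hq (one_mem _))
      rw [dd_inv, dd_mul, dd_mul] at this
      exact (of_dd_mem_big this).1
  have hxy : y * x⁻¹ ∈ (Q : Subgroup SL(2, F)) := by
    have := hc2 _ (sw_mem_big _)
    rw [dd_inv, mul_assoc, sw_dd, ← mul_assoc, dd_mul] at this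
    exact (of_dd_sw_mem_big this).2
  have hxy' : x⁻¹ * y ∈ (Q : Subgroup SL(2, F)) := by
    have := conj_mem_of_mem_normalizer (inv_mem hx) hxy
    simpa [mul_assoc] using this
  refine ⟨x, hx, dd 1 (x⁻¹ * y) * e⁻¹, mul_mem (dd_mem_big (one_mem _) hxy') (inv_mem he), ?_⟩
  rw [← mul_assoc, dd_mul, mul_one, mul_inv_cancel_left, ← hge, mul_inv_cancel_right]

/-- A rotation of the quaternion group lies in the residual. -/
theorem dd_diag_mem_residual (Q : Sylow 2 SL(2, F)) {i j : SL(2, F)}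
    (hQ : Nat.card (Q : Subgroup SL(2, F)) = 8)
    (hiQ : i ∈ (Q : Subgroup SL(2, F))) (hjQ : j ∈ (Q : Subgroup SL(2, F))) (hi : i * i = -1) (hj : j * j = -1)
    (hij : i * j ≠ j * i) {a : SL(2, F)}
    (ha : a ∈ Subgroup.normalizer ((Q : Subgroup SL(2, F)) : Set SL(2, F)))
    (hai : a * i = j * a) (haj : a * j = i * j * a ∨ a * j = -(i * j) * a) :
    π' (dd a a) ∈ normalResidual 2 ((big (Q : Subgroup SL(2, F))).map π') := by
  have h2 := two_ne_zero_of_odd hodd
  obtain ⟨hji, -⟩ := q8_cases h2 hQ hiQ hjQ hi hj hij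
  have hsign := q8_signComm h2 hQ hiQ hjQ hi hj hij
  have hneg : (-1 : SL(2, F)) ∈ (Q : Subgroup SL(2, F)) := hi ▸ mul_mem hiQ hiQ
  set R := Subgroup.closure (radGens (Q : Subgroup SL(2, F)))
  have hgen : ∀ q ∈ (Q : Subgroup SL(2, F)), dd q q ∈ R := fun q hq =>
    Subgroup.subset_closure (Or.inl ⟨q, hq, rfl⟩)
  have hD : dd 1 (-1) ∈ R := Subgroup.subset_closure (Or.inr (Or.inl rfl))
  have hW : sw F ∈ R := Subgroup.subset_closure (Or.inr (Or.inr rfl))
  have hqn : ∀ q ∈ (Q : Subgroup SL(2, F)), dd q (-q) ∈ R := fun q hq => by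
    have := mul_mem (hgen q hq) hD
    rwa [dd_mul, mul_one, mul_neg_one] at this
  have hRle : R ≤ big (Q : Subgroup SL(2, F)) := (Subgroup.closure_le _).mpr (by
    rintro _ (⟨q, hq, rfl⟩ | rfl | rfl)
    · exact dd_mem_big hq hq
    · exact dd_mem_big (one_mem _) hneg
    · exact sw_mem_big _)
  have hnormS : ∀ h ∈ big (Q : Subgroup SL(2, F)), ∀ x ∈ radGens (Q : Subgroup SL(2, F)), h * x * h⁻¹ ∈ R := by
    have hdd : ∀ c ∈ (Q : Subgroup SL(2, F)), ∀ d ∈ (Q : Subgroup SL(2, F)),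
        ∀ x ∈ radGens (Q : Subgroup SL(2, F)), dd c d * x * (dd c d)⁻¹ ∈ R := by
      intro c hc d hd x hx
      have hpm : ∀ y q : SL(2, F), SignComm y q → y * q * y⁻¹ = q ∨ y * q * y⁻¹ = -q := fun y q h => by
        rcases h with h | h
        · exact Or.inl (by rw [h, mul_inv_cancel_right])
        · exact Or.inr (by rw [h, neg_mul, mul_inv_cancel_right])
      rcases hx with ⟨q, hq, rfl⟩ | rfl | rfl
      · rw [dd_inv, dd_mul, dd_mul]
        rcases hpm c q (hsign c hc q hq) with e | e <;> rcases hpm d q (hsign d hd q hq) with e' | e' <;>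
          rw [e, e']
        · exact hgen q hq
        · exact hqn q hq
        · have := hqn (-q) (neg_one_mul q ▸ mul_mem hneg hq); rwa [neg_neg] at this
        · exact hgen _ (neg_one_mul q ▸ mul_mem hneg hq)
      · rw [dd_inv, dd_mul, dd_mul, mul_one, mul_inv_cancel, mul_neg_one, neg_mul, mul_inv_cancel]
        exact hD
      · rw [dd_inv, mul_assoc, sw_dd, ← mul_assoc, dd_mul]
        have he : c * d⁻¹ ∈ (Q : Subgroup SL(2, F)) := mul_mem hc (inv_mem hd)
        rcases q8_inv h2 hQ hiQ hjQ hi hj hij _ he with e | e <;>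
          rw [_root_.mul_inv_rev, inv_inv] at e <;> rw [e]
        · exact mul_mem (hgen _ he) hW
        · exact mul_mem (hqn _ he) hW
    have hs : ∀ x ∈ radGens (Q : Subgroup SL(2, F)), sw F * x * (sw F)⁻¹ ∈ R := by
      rintro _ (⟨q, hq, rfl⟩ | rfl | rfl)
      · rw [sw_dd, mul_inv_cancel_right]; exact hgen q hq
      · rw [sw_dd, mul_inv_cancel_right]
        have := mul_mem (hgen _ hneg) hD
        rwa [dd_mul, mul_one, neg_mul_neg, one_mul] at this
      · rw [mul_inv_cancel_right]; exact hW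
    rintro _ ⟨c, hc, d, hd, rfl | rfl⟩ x hx
    · exact hdd c hc d hd x hx
    · have h1 : R ≤ R.comap (MulAut.conj (dd c d)).toMonoidHom :=
        (Subgroup.closure_le _).mpr fun y hy => hdd c hc d hd y hy
      rw [show dd c d * sw F * x * (dd c d * sw F)⁻¹ = dd c d * (sw F * x * (sw F)⁻¹) * (dd c d)⁻¹ by group]
      exact h1 (hs x hx)
  set Y : M2 := (i : M2) - (j : M2) with hYdef
  have hiM := coe_sq_neg hi
  have hjM := coe_sq_neg hj
  have hjiM : (j : M2) * i = -((i : M2) * j) := by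
    rw [← Matrix.SpecialLinearGroup.coe_mul, hji, Matrix.SpecialLinearGroup.coe_neg,
      Matrix.SpecialLinearGroup.coe_mul]
  have hYi : Y * i = -((j : M2) * Y) := by
    rw [hYdef, sub_mul, mul_sub, hiM, hjiM, hjM]; abel
  have hYj : Y * j = -((i : M2) * Y) := by
    rw [hYdef, sub_mul, mul_sub, hiM, hjM]; abel
  have hYY : Y * Y = (-2 : F) • (1 : M2) := by
    rw [hYdef, sub_mul, mul_sub, mul_sub, hiM, hjM, hjiM, neg_smul, two_smul]; abel
  have hYdet : Y.det = 2 := by
    have h := cayley Y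
    rw [hYY, hYdef, Matrix.trace_sub, trace_eq_zero hi, trace_eq_zero hj, sub_self, zero_smul, zero_sub,
      ← neg_smul, ← hYdef] at h
    have h' := congrFun (congrFun h 0) 0
    simp at h'
    linear_combination -h'
  have hH : ((2 : F)⁻¹ • !![(1 : F), 1; 1, -1])ᵀ * ((2 : F)⁻¹ • !![(1 : F), 1; 1, -1]) = (2 : F)⁻¹ • (1 : M2) := by
    ext r s
    fin_cases r <;> fin_cases s <;> simp [Matrix.mul_apply, Fin.sum_univ_two] <;> field_simp <;> ring
  set H0 : M2 := (2 : F)⁻¹ • !![(1 : F), 1; 1, -1] with hH0def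
  have hHH : H0 * H0 = (2 : F)⁻¹ • (1 : M2) := by
    rw [← hH]
    congr 1
    ext r s
    fin_cases r <;> fin_cases s <;> simp [hH0def]
  obtain ⟨u, hu⟩ : ∃ u : Sp4, (u : M4) = tens Y H0 :=
    ⟨⟨_, tens_mem (Y := Y) hH (by rw [hYdet, mul_inv_cancel₀ h2])⟩, rfl⟩
  have hu4 : u ^ 2 ^ 2 = 1 := Subtype.ext (by
    rw [show u ^ 2 ^ 2 = u * u * (u * u) by simp [pow_succ, mul_assoc], Submonoid.coe_mul, Submonoid.coe_mul, hu, tens_mul, hYY,
      hHH, tens_smul_one, smul_mul_smul_comm, one_mul, show -2 * (2 : F)⁻¹ * (-2 * 2⁻¹) = 1 by field_simp,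
      one_smul, OneMemClass.coe_one])
  have hYQ : ∀ q ∈ (Q : Subgroup SL(2, F)), ∃ q' ∈ (Q : Subgroup SL(2, F)), Y * q = (q' : M2) * Y := by
    refine q8_induction h2 hQ hiQ hjQ hi hj hij (M := fun q : SL(2, F) => ∃ q' ∈ (Q : Subgroup SL(2, F)),
      Y * q = (q' : M2) * Y) ⟨1, one_mem _, by simp⟩
      ⟨-j, neg_one_mul j ▸ mul_mem hneg hjQ, by rw [hYi, Matrix.SpecialLinearGroup.coe_neg, neg_mul]⟩
      ⟨-i, neg_one_mul i ▸ mul_mem hneg hiQ, by rw [hYj, Matrix.SpecialLinearGroup.coe_neg, neg_mul]⟩ ?_ ?_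
    · rintro x - y - ⟨x', hx', ex⟩ ⟨y', hy', ey⟩
      exact ⟨x' * y', mul_mem hx' hy', by
        rw [Matrix.SpecialLinearGroup.coe_mul, ← mul_assoc, ex, mul_assoc, ey, ← mul_assoc,
          Matrix.SpecialLinearGroup.coe_mul]⟩
    · rintro x - ⟨x', hx', ex⟩
      exact ⟨-x', neg_one_mul x' ▸ mul_mem hneg hx', by
        rw [Matrix.SpecialLinearGroup.coe_neg, mul_neg, ex, Matrix.SpecialLinearGroup.coe_neg, neg_mul]⟩
  have hun : ∀ x ∈ radGens (Q : Subgroup SL(2, F)), u * x * u⁻¹ ∈ R := by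
    rintro _ (⟨q, hq, rfl⟩ | rfl | rfl)
    · obtain ⟨q', hq', e⟩ := hYQ q hq
      rw [show u * dd q q = dd q' q' * u from Subtype.ext (by
        rw [Submonoid.coe_mul, Submonoid.coe_mul, hu, coe_dd_diag, coe_dd_diag, tens_mul, tens_mul, e,
          mul_one, one_mul]), mul_inv_cancel_right]
      exact hgen q' hq'
    · rw [show u * dd 1 (-1) = sw F * u from Subtype.ext (by
        rw [Submonoid.coe_mul, Submonoid.coe_mul, hu, coe_dd_neg]
        show tens _ _ * tens _ _ = tens 1 _ * tens _ _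
        rw [tens_mul, tens_mul, Matrix.SpecialLinearGroup.coe_one, mul_one, one_mul]
        congr 1
        ext r s
        fin_cases r <;> fin_cases s <;> simp [hH0def, Matrix.mul_apply, Fin.sum_univ_two]),
        mul_inv_cancel_right]
      exact hW
    · rw [show u * sw F = dd 1 (-1) * u from Subtype.ext (by
        rw [Submonoid.coe_mul, Submonoid.coe_mul, hu, coe_dd_neg]
        show tens _ _ * tens 1 _ = tens _ _ * tens _ _
        rw [tens_mul, tens_mul, Matrix.SpecialLinearGroup.coe_one, mul_one, one_mul]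
        congr 1
        ext r s
        fin_cases r <;> fin_cases s <;> simp [hH0def, Matrix.mul_apply, Fin.sum_univ_two]),
        mul_inv_cancel_right]
      exact hD
  have han : ∀ x ∈ radGens (Q : Subgroup SL(2, F)), dd a a * x * (dd a a)⁻¹ ∈ R := by
    rintro _ (⟨q, hq, rfl⟩ | rfl | rfl)
    · rw [dd_inv, dd_mul, dd_mul]
      exact hgen _ (conj_mem_of_mem_normalizer ha hq)
    · rw [dd_inv, dd_mul, dd_mul, mul_one, mul_inv_cancel, mul_neg_one, neg_mul, mul_inv_cancel]
      exact hD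
    · rw [← sw_dd, mul_inv_cancel_right]; exact hW
  have hv4 : (u * dd a a) ^ 2 ^ 2 = 1 := by
    set X : M2 := Y * a with hXdef
    set k := i * j with hk
    have hYk : Y * (k : M2) = -((k : M2) * Y) := by
      rw [hk, Matrix.SpecialLinearGroup.coe_mul, ← mul_assoc, hYi, neg_mul, mul_assoc, hYj, mul_neg, neg_neg,
        ← mul_assoc, hjiM, neg_mul]
    have haiM : (a : M2) * i = j * a := by
      rw [← Matrix.SpecialLinearGroup.coe_mul, hai, Matrix.SpecialLinearGroup.coe_mul]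
    have hXi : X * i = -((i : M2) * X) := by rw [hXdef, mul_assoc, haiM, ← mul_assoc, hYj, neg_mul, mul_assoc]
    have hkj : j * k = i := by rw [hk, ← mul_assoc, hji, neg_mul, mul_assoc, hj, mul_neg_one, neg_neg]
    have hXX : X * X * i = i * (X * X) ∧ X * X * j = j * (X * X) := by
      refine ⟨by rw [mul_assoc, hXi, mul_neg, ← mul_assoc, hXi, neg_mul, neg_neg, mul_assoc], ?_⟩
      rcases haj with e | e
      · have e' : (a : M2) * j = k * a := congrArg Subtype.val e
        have ek : a * k = i * a := by rw [hk, ← mul_assoc, hai, mul_assoc, e, ← mul_assoc, hkj]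
        have ek' : (a : M2) * k = i * a := congrArg Subtype.val ek
        have hXk : X * k = -((j : M2) * X) := by rw [hXdef, mul_assoc, ek', ← mul_assoc, hYi, neg_mul, mul_assoc]
        have hXj : X * j = -((k : M2) * X) := by rw [hXdef, mul_assoc, e', ← mul_assoc, hYk, neg_mul, mul_assoc]
        rw [mul_assoc, hXj, mul_neg, ← mul_assoc, hXk, neg_mul, neg_neg, mul_assoc]
      · have e' : (a : M2) * j = -((k : M2) * a) := by
          rw [← Matrix.SpecialLinearGroup.coe_mul, e, neg_mul, Matrix.SpecialLinearGroup.coe_neg,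
            Matrix.SpecialLinearGroup.coe_mul]
        have ek : a * k = -(i * a) := by
          rw [hk, ← mul_assoc, hai, mul_assoc, e, ← mul_assoc, mul_neg, hkj, neg_mul]
        have ek' : (a : M2) * k = -((i : M2) * a) := by
          rw [← Matrix.SpecialLinearGroup.coe_mul, ek, Matrix.SpecialLinearGroup.coe_neg,
            Matrix.SpecialLinearGroup.coe_mul]
        have hXk : X * k = (j : M2) * X := by
          rw [hXdef, mul_assoc, ek', mul_neg, ← mul_assoc, hYi, neg_mul, neg_neg, mul_assoc]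
        have hXj : X * j = (k : M2) * X := by
          rw [hXdef, mul_assoc, e', mul_neg, ← mul_assoc, hYk, neg_mul, neg_neg, mul_assoc]
        rw [mul_assoc, hXj, ← mul_assoc, hXk, mul_assoc]
    have hc := scalar_of_comm h2 hi hj hij hXX.1 hXX.2
    set c := (X * X).trace / 2
    have hc2 : c ^ 2 = 4 := by
      have := congrArg Matrix.det hc
      rw [Matrix.det_mul, hXdef, Matrix.det_mul, hYdet, a.2, Matrix.det_smul, Matrix.det_one, Fintype.card_fin] at this
      linear_combination -this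
    refine Subtype.ext ?_
    rw [show (u * dd a a) ^ 2 ^ 2 = u * dd a a * (u * dd a a) * (u * dd a a * (u * dd a a)) by simp [pow_succ, mul_assoc],
      Submonoid.coe_mul, Submonoid.coe_mul, Submonoid.coe_mul, hu, coe_dd_diag, tens_mul, mul_one, tens_mul,
      ← hXdef, hc, hHH, tens_smul_one, smul_mul_smul_comm, one_mul,
      show c * (2 : F)⁻¹ * (c * 2⁻¹) = 1 by field_simp; linear_combination hc2, one_smul, OneMemClass.coe_one]
  refine ⟨mem_normalizer_of_maps_finite ?_, R.map π', Subgroup.map_mono hRle, ?_, ?_, ?_⟩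
  · rintro _ ⟨x, ⟨c, hc, d, hd, hx⟩, rfl⟩
    refine ⟨dd a a * x * (dd a a)⁻¹, ?_, by simp⟩
    rcases hx with rfl | rfl
    · rw [dd_inv, dd_mul, dd_mul]
      exact dd_mem_big (conj_mem_of_mem_normalizer ha hc) (conj_mem_of_mem_normalizer ha hd)
    · rw [dd_inv, ← mul_assoc, dd_mul, mul_assoc, sw_dd, ← mul_assoc, dd_mul]
      exact mul_mem (dd_mem_big (conj_mem_of_mem_normalizer ha hc) (conj_mem_of_mem_normalizer ha hd))
        (sw_mem_big _)
  · rintro _ ⟨h, hh, rfl⟩
    exact mk_mem_normalizer (hnormS h hh)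
  · rintro _ ⟨⟨h, hh, rfl⟩, hcent⟩
    refine ⟨h, ?_, rfl⟩
    have hpc : ProjComm h (sw F) :=
      projComm_of_mk_comm hodd (Subgroup.mem_centralizer_iff.mp hcent _ ⟨_, hW, rfl⟩).symm
    have main : ∀ c ∈ (Q : Subgroup SL(2, F)), ∀ d ∈ (Q : Subgroup SL(2, F)), ProjComm (dd c d) (sw F) → dd c d ∈ R := by
      intro c hc d hd hp
      rcases hp with e | e
      · rw [sw_dd] at e
        obtain ⟨rfl, -⟩ := dd_inj (mul_right_cancel e)
        exact hgen c hc
      · rw [sw_dd, ← mul_assoc, negOne, dd_mul] at e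
        have he := (dd_inj (mul_right_cancel e)).1
        have hd' : d = -c := by rw [he]; simp
        exact hd' ▸ hqn c hc
    obtain ⟨c, hc, d, hd, rfl | rfl⟩ := hh
    · exact main c hc d hd hpc
    · refine mul_mem (main c hc d hd ?_) hW
      rcases hpc with e | e
      · exact Or.inl (mul_right_cancel (b := sw F) (e.trans (mul_assoc _ _ _).symm))
      · refine Or.inr (mul_right_cancel (b := sw F) ?_)
        rw [e]; group
  · have hsub : ∀ w : Sp4, w ^ 2 ^ 2 = 1 → π' w ∈ Subgroup.normalizer ((R.map π' : Subgroup P4) : Set P4) →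
        π' w ∈ Subgroup.closure {x : P4 | x ∈ Subgroup.normalizer ((R.map π' : Subgroup P4) : Set P4) ∧
          ∃ k : ℕ, x ^ 2 ^ k = 1} := fun w hw hn =>
      Subgroup.subset_closure ⟨hn, 2, by rw [← map_pow, hw, map_one]⟩
    rw [show dd a a = u⁻¹ * (u * dd a a) by group, map_mul, map_inv]
    have hn := mk_mem_normalizer hun
    exact mul_mem (inv_mem (hsub u hu4 hn)) (hsub _ hv4 (by
      rw [map_mul]
      exact mul_mem hn (mk_mem_normalizer han)))

theorem isSimple (S : Sylow 2 P4) : (groupFusionSystem (S : Subgroup P4)).IsSimple 2 := by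
  have h2 := two_ne_zero_of_odd hodd
  obtain ⟨Q⟩ : Nonempty (Sylow 2 SL(2, F)) := inferInstance
  have hsurj : Function.Surjective π' := QuotientGroup.mk'_surjective _
  obtain ⟨S₀, hS₀⟩ : ∃ S₀ : Sylow 2 P4, (S₀ : Subgroup P4) = (big (Q : Subgroup SL(2, F))).map π' :=
    ⟨(Sylow.ofCard (big (Q : Subgroup SL(2, F))) (card_big_sylow hodd Q)).mapSurjective hsurj, by
      rw [Sylow.coe_mapSurjective]; rfl⟩
  refine isSimple_of_normalResidual S₀ S (fun h => ?_)
    (fun T hT => or_iff_not_imp_left.mpr (eq_of_stronglyClosed hodd Q S₀ hS₀ hT)) ?_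
  · obtain ⟨i, hi, -, -, hi2, -, -⟩ := (exists_quaternion h2 Q).2.1
    have h1 : π' (dd i 1) ∈ (S₀ : Subgroup P4) :=
      hS₀.symm ▸ Subgroup.mem_map_of_mem _ (dd_mem_big hi (one_mem _))
    rw [h, Subgroup.mem_bot, ← map_one π'] at h1
    rcases eq_or_of_mk_eq hodd h1 with e | e
    · rw [(dd_inj (e.symm.trans dd_one.symm)).1] at hi2
      simp at hi2
      exact neg_one_ne_one h2 hi2.symm
    · rw [← dd_one, negOne, dd_mul] at e
      have := (dd_inj e).2
      simp at this
      exact neg_one_ne_one h2 this.symm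
  rw [hS₀]
  intro g hg
  set K := Subgroup.closure (normalResidual 2 ((big (Q : Subgroup SL(2, F))).map π') ∪
    (((big (Q : Subgroup SL(2, F))).map π' : Subgroup P4) : Set P4) ∪
    Subgroup.centralizer (((big (Q : Subgroup SL(2, F))).map π' : Subgroup P4) : Set P4))
  obtain ⟨M, rfl⟩ := hsurj g
  obtain ⟨a, ha, h, hh, rfl⟩ := normalizer_shape hodd Q hg
  have hS : ∀ x ∈ big (Q : Subgroup SL(2, F)), π' x ∈ K := fun x hx =>
    Subgroup.subset_closure (Or.inl (Or.inr (Subgroup.mem_map_of_mem _ hx)))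
  rw [map_mul]
  refine mul_mem ?_ (hS h hh)
  let L : Subgroup SL(2, F) := K.comap ((π').comp (ddHom.comp
    ((MonoidHom.id SL(2, F)).prod (MonoidHom.id SL(2, F)))))
  show a ∈ L
  have hQL : ∀ x ∈ (Q : Subgroup SL(2, F)), x ∈ L := fun x hx => hS _ (dd_mem_big hx hx)
  obtain ⟨-, ⟨p, hp, r, hr, hp2, hr2, hpr⟩, hcase⟩ := exists_quaternion h2 Q
  rcases hcase with haut | h8
  · -- the automorphism group is a 2-group
    set φ : MulAut (Q : Subgroup SL(2, F)) := conjAut (Q : Subgroup SL(2, F)) a ha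
    obtain ⟨k, hk⟩ := haut φ
    have hpow : ∀ n : ℕ, ∀ y : (Q : Subgroup SL(2, F)), ((φ ^ n) y : SL(2, F)) = a ^ n * y * (a ^ n)⁻¹ := by
      intro n
      induction n with
      | zero => intro y; simp
      | succ n ih =>
        intro y
        rw [pow_succ, MulAut.mul_apply, ih, conjAut_apply, pow_succ]
        group
    have hc : ∀ y ∈ (Q : Subgroup SL(2, F)), a ^ 2 ^ k * y = y * a ^ 2 ^ k := fun y hy => by
      have := hpow (2 ^ k) ⟨y, hy⟩
      rw [hk] at this
      exact (eq_mul_inv_iff_mul_eq.mp this).symm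
    have hsq := sq_eq_one_of_comm h2 hp2 hr2 hpr (hc p hp) (hc r hr)
    exact hQL _ (mem_sylow_of_two_element Q ha (k := k + 1) (by rw [pow_succ, pow_mul, sq, hsq]))
  obtain ⟨k, m, hm, hn⟩ := Nat.exists_eq_pow_mul_and_not_dvd (orderOf_pos a).ne' 2 (by norm_num)
  have hodd_mem : a ^ 2 ^ k ∈ L := by
    set b := a ^ 2 ^ k
    have hb : b ∈ Subgroup.normalizer ((Q : Subgroup SL(2, F)) : Set SL(2, F)) := pow_mem ha _
    have hbm : b ^ m = 1 := by rw [← pow_mul, ← hn, pow_orderOf_eq_one]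
    have hcop : ∀ e : ℕ, Nat.Coprime (2 ^ e) (orderOf b) := fun e => Nat.Coprime.pow_left _
      ((Nat.prime_two.coprime_iff_not_dvd).mpr fun hd => hm (hd.trans (orderOf_dvd_of_pow_eq_one hbm)))
    have hcomm : ∀ (e : ℕ) (x : SL(2, F)), Commute (b ^ 2 ^ e) x → Commute b x := fun e x hx => by
      obtain ⟨t, ht⟩ := exists_pow_eq_self_of_coprime (hcop e)
      exact ht ▸ hx.pow_left t
    by_cases hall : ∀ x ∈ (Q : Subgroup SL(2, F)), x * x = -1 → b * x = x * b
    · have hsq := sq_eq_one_of_comm h2 hp2 hr2 hpr (hall p hp hp2) (hall r hr hr2)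
      obtain ⟨t, ht⟩ := exists_pow_eq_self_of_coprime (hcop 1)
      rw [pow_one, sq, hsq, one_pow] at ht
      exact ht ▸ one_mem L
    push Not at hall
    obtain ⟨i, hi, hi2, hbi⟩ := hall
    have hconjsq : ∀ x : SL(2, F), x * x = -1 → b * x * b⁻¹ * (b * x * b⁻¹) = -1 := fun x hx => by
      rw [show b * x * b⁻¹ * (b * x * b⁻¹) = b * (x * x) * b⁻¹ by group, hx, mul_neg_one, neg_mul,
        mul_inv_cancel]
    set j := b * i * b⁻¹ with hjdef
    have hj := conj_mem_of_mem_normalizer hb hi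
    have hj2 := hconjsq i hi2
    have hji1 : j ≠ i := fun e => hbi (mul_inv_eq_iff_eq_mul.mp e)
    have hji3 : j ≠ -i := fun e => hbi (hcomm 1 i (by
      have e' : b * i = -(i * b) := by rw [mul_inv_eq_iff_eq_mul.mp e, neg_mul]
      show b ^ 2 ^ 1 * i = i * b ^ 2 ^ 1
      rw [pow_one, sq, mul_assoc, e', mul_neg, ← mul_assoc, e', neg_mul, neg_neg, mul_assoc])).eq
    have hij := not_comm h2 hi2 hj2 hji1 hji3
    set l := b * j * b⁻¹ with hldef
    have hl := conj_mem_of_mem_normalizer hb hj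
    have hl2 := hconjsq j hj2
    have hlj1 : l ≠ j := fun e => hji1 (by
      have := mul_inv_eq_iff_eq_mul.mp e
      rw [hjdef, mul_assoc (b * i), inv_mul_cancel, mul_one] at this
      exact (mul_left_cancel this))
    have hlj3 : l ≠ -j := fun e => hji3 (by
      have := mul_inv_eq_iff_eq_mul.mp e
      rw [hjdef, neg_mul, mul_assoc (b * i), inv_mul_cancel, mul_one, ← mul_neg] at this
      exact (mul_left_cancel this))
    have e2 : b ^ 2 * i = l * b ^ 2 := by simp [hldef, hjdef, sq, mul_assoc]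
    have hli1 : l ≠ i := fun e => hbi (hcomm 1 i (by
      show b ^ 2 ^ 1 * i = i * b ^ 2 ^ 1
      rw [pow_one, e2, e])).eq
    have hli3 : l ≠ -i := fun e => hbi (hcomm 2 i (by
      show b ^ 2 ^ 2 * i = i * b ^ 2 ^ 2
      have e3 : b ^ 2 * i = -(i * b ^ 2) := by rw [e2, e, neg_mul]
      rw [show b ^ 2 ^ 2 = b ^ 2 * b ^ 2 by simp [pow_succ, mul_assoc], mul_assoc, e3, mul_neg, ← mul_assoc, e3, neg_mul,
        neg_neg, mul_assoc])).eq
    refine Subgroup.subset_closure (Or.inl (Or.inl (dd_diag_mem_residual hodd Q h8 hi hj hi2 hj2 hij hb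
      (mul_inv_eq_iff_eq_mul.mp rfl) ?_)))
    rcases q8_third h2 h8 hi hj hi2 hj2 hij hl hl2 hli1 hli3 hlj1 hlj3 with e | e
    · exact Or.inl (mul_inv_eq_iff_eq_mul.mp e)
    · exact Or.inr (mul_inv_eq_iff_eq_mul.mp e)
  have htwo : a ^ m ∈ L := hQL _ (mem_sylow_of_two_element Q (pow_mem ha _) (k := k) (by
    rw [← pow_mul, mul_comm, ← hn, pow_orderOf_eq_one]))
  have hco : Nat.Coprime (2 ^ k) m := Nat.Coprime.pow_left _ (Nat.prime_two.coprime_iff_not_dvd.mpr hm)
  have := mul_mem (zpow_mem hodd_mem (Nat.gcdA (2 ^ k) m)) (zpow_mem htwo (Nat.gcdB (2 ^ k) m))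
  rwa [← zpow_natCast, ← zpow_natCast a m, ← _root_.zpow_mul, ← _root_.zpow_mul, ← _root_.zpow_add,
    ← Nat.gcd_eq_gcd_ab, hco.gcd_eq_one, Nat.cast_one, _root_.zpow_one] at this

end Cfsg.Lib.Fusion.PSpTwo
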