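import Cfsg.Agent.Fusion.PSpTwo.SLTwoFacts

/-!
A quaternion subgroup of order eight in `SL 2`.
-/

set_option autoImplicit false
set_option linter.unusedSectionVars false

namespace Cfsg.Lib.Fusion.PSpTwo

open Matrix
open scoped MatrixGroups

variable {F : Type*} [Field F]

/-- Commuting up to sign. -/
def SignComm (x y : SL(2, F)) : Prop := x * y = y * x ∨ x * y = -(y * x)

theorem SignComm.symm {x y : SL(2, F)} (h : SignComm x y) : SignComm y x := by
  rcases h with h | h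
  · exact Or.inl h.symm
  · exact Or.inr (by rw [h, neg_neg])

theorem SignComm.mul {x x' y : SL(2, F)} (h : SignComm x y) (h' : SignComm x' y) :
    SignComm (x * x') y := by
  rcases h with h | h <;> rcases h' with h' | h'
  · exact Or.inl (by rw [mul_assoc, h', ← mul_assoc, h, mul_assoc])
  · exact Or.inr (by rw [mul_assoc, h', mul_neg, ← mul_assoc, h, mul_assoc])
  · exact Or.inr (by rw [mul_assoc, h', ← mul_assoc, h, neg_mul, mul_assoc])
  · exact Or.inl (by rw [mul_assoc, h', mul_neg, ← mul_assoc, h, neg_mul, neg_neg, mul_assoc])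

theorem SignComm.neg {x y : SL(2, F)} (h : SignComm x y) : SignComm (-x) y := by
  rcases h with h | h
  · exact Or.inl (by rw [neg_mul, mul_neg, h])
  · exact Or.inr (by rw [neg_mul, mul_neg, h])

theorem inv_eq_neg {g : SL(2, F)} (hg : g * g = -1) : g⁻¹ = -g :=
  inv_eq_of_mul_eq_one_right (by rw [mul_neg, hg, neg_neg])

variable [Fintype F] (h2 : (2 : F) ≠ 0)

include h2

theorem eq_or_eq_neg_of_commute {i j : SL(2, F)} (hi : i * i = -1) (hj : j * j = -1)
    (h : i * j = j * i) : j = i ∨ j = -i := by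
  have h1 : (i⁻¹ * j) * (i⁻¹ * j) = 1 := by
    have hc : Commute i⁻¹ j := (Commute.inv_left h)
    rw [show (i⁻¹ * j) * (i⁻¹ * j) = i⁻¹ * (j * i⁻¹) * j by group, ← hc.eq,
      show i⁻¹ * (i⁻¹ * j) * j = (i * i)⁻¹ * (j * j) by group, hi, hj, inv_mul_cancel]
  rcases sq_eq_one h2 h1 with h3 | h3
  · exact Or.inl (inv_mul_eq_one.mp h3).symm
  · exact Or.inr (by rw [inv_mul_eq_iff_eq_mul, mul_neg, mul_one] at h3; exact h3)

theorem not_comm {i j : SL(2, F)} (hi : i * i = -1) (hj : j * j = -1) (h1 : j ≠ i) (h3 : j ≠ -i) :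
    i * j ≠ j * i := fun h => (eq_or_eq_neg_of_commute h2 hi hj h).elim h1 h3

theorem orderOf_eq_four {i : SL(2, F)} (hi : i * i = -1) : orderOf i = 4 := by
  have := Fact.mk Nat.prime_two
  exact orderOf_eq_prime_pow (p := 2) (n := 1) (by rw [pow_one, sq, hi]; exact neg_one_ne_one h2)
    (by rw [show (2 : ℕ) ^ (1 + 1) = 2 * 2 from rfl, pow_mul, sq i, hi, neg_one_sq])

theorem mem_zpowers_cases {i x : SL(2, F)} (hi : i * i = -1) (hx : x ∈ Subgroup.zpowers i) :
    x = 1 ∨ x = i ∨ x = -1 ∨ x = -i := by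
  have hfin : IsOfFinOrder i := orderOf_pos_iff.mp (by rw [orderOf_eq_four h2 hi]; norm_num)
  classical
  rw [hfin.mem_zpowers_iff_mem_range_orderOf, orderOf_eq_four h2 hi] at hx
  simp only [Finset.mem_image, Finset.mem_range] at hx
  obtain ⟨n, hn, rfl⟩ := hx
  interval_cases n
  · exact Or.inl (pow_zero _)
  · exact Or.inr (Or.inl (pow_one _))
  · exact Or.inr (Or.inr (Or.inl (by rw [sq, hi])))
  · exact Or.inr (Or.inr (Or.inr (by rw [pow_succ, sq, hi, neg_one_mul])))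

variable {Q : Subgroup SL(2, F)} (hQ : Nat.card Q = 8) {i j : SL(2, F)} (hiQ : i ∈ Q) (hjQ : j ∈ Q)
  (hi : i * i = -1) (hj : j * j = -1) (hij : i * j ≠ j * i)

include hQ hiQ hjQ hi hj hij

theorem q8_cases : j * i = -(i * j) ∧ ∀ x ∈ Q,
    x = 1 ∨ x = i ∨ x = -1 ∨ x = -i ∨ x = j ∨ x = j * i ∨ x = -j ∨ x = -(j * i) := by
  set H := Subgroup.zpowers (⟨i, hiQ⟩ : Q)
  have hH : ∀ x : Q, x ∈ H ↔ (x : SL(2, F)) ∈ Subgroup.zpowers i := fun x => by
    simp only [H, Subgroup.mem_zpowers_iff, Subtype.ext_iff, Subgroup.coe_zpow]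
  have hcard : Nat.card H = 4 := by
    rw [Nat.card_zpowers, ← Subgroup.orderOf_coe]
    exact orderOf_eq_four h2 hi
  have hidx : H.index = 2 := by
    have := H.card_mul_index
    rw [hcard, hQ] at this
    omega
  have hjH : (⟨j, hjQ⟩ : Q) ∉ H := fun h => by
    obtain ⟨n, hn⟩ := Subgroup.mem_zpowers_iff.mp ((hH _).mp h)
    exact hij (by rw [show j = i ^ n from hn.symm]; exact (Commute.self_zpow i n).eq)
  have hn : H.Normal := Subgroup.normal_of_index_eq_two hidx
  refine ⟨?_, fun x hx => ?_⟩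
  · have h1 := (hH _).mp (hn.conj_mem ⟨i, hiQ⟩ (Subgroup.mem_zpowers _) ⟨j, hjQ⟩)
    simp only [Subgroup.coe_mul, Subgroup.coe_inv] at h1
    rcases mem_zpowers_cases h2 hi h1 with h | h | h | h
    · rw [conj_eq_one_iff] at h
      rw [h, one_mul] at hi
      exact absurd hi.symm (neg_one_ne_one h2)
    · exact absurd (mul_inv_eq_iff_eq_mul.mp h).symm hij
    · rw [mul_inv_eq_iff_eq_mul, neg_one_mul] at h
      rw [show i = -1 from mul_left_cancel (h.trans (mul_neg_one j).symm)] at hi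
      simp at hi
      exact absurd hi.symm (neg_one_ne_one h2)
    · rw [mul_inv_eq_iff_eq_mul, neg_mul] at h
      exact h
  · by_cases hxH : (⟨x, hx⟩ : Q) ∈ H
    · have h3 : x ∈ Subgroup.zpowers i := (hH _).mp hxH
      rcases mem_zpowers_cases h2 hi h3 with h | h | h | h <;> simp [h]
    · have h1 : (⟨j, hjQ⟩ : Q)⁻¹ * ⟨x, hx⟩ ∈ H :=
        (Subgroup.mul_mem_iff_of_index_two hidx).mpr (by simp [inv_mem_iff, hjH, hxH])
      have h3 := (hH _).mp h1
      simp only [Subgroup.coe_mul, Subgroup.coe_inv] at h3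
      rcases mem_zpowers_cases h2 hi h3 with h | h | h | h <;>
        rw [inv_mul_eq_iff_eq_mul] at h
      all_goals simp [h]

theorem q8_induction {M : SL(2, F) → Prop} (h1 : M 1) (hMi : M i) (hMj : M j)
    (hmul : ∀ x ∈ Q, ∀ y ∈ Q, M x → M y → M (x * y)) (hneg : ∀ x ∈ Q, M x → M (-x)) :
    ∀ x ∈ Q, M x := fun x hx => by
  have hji : M (j * i) := hmul _ hjQ _ hiQ hMj hMi
  rcases (q8_cases h2 hQ hiQ hjQ hi hj hij).2 x hx with h | h | h | h | h | h | h | h <;> subst h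
  · exact h1
  · exact hMi
  · exact hneg _ (one_mem Q) h1
  · exact hneg _ hiQ hMi
  · exact hMj
  · exact hji
  · exact hneg _ hjQ hMj
  · exact hneg _ (mul_mem hjQ hiQ) hji

theorem q8_signComm : ∀ x ∈ Q, ∀ y ∈ Q, SignComm x y := by
  have hji : SignComm j i := Or.inr (q8_cases h2 hQ hiQ hjQ hi hj hij).1
  intro x hx y hy
  refine q8_induction h2 hQ hiQ hjQ hi hj hij (M := fun x => SignComm x y) ?_ ?_ ?_
    (fun _ _ _ _ h h' => h.mul h') (fun _ _ h => h.neg) x hx
  · exact Or.inl (by rw [one_mul, mul_one])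
  all_goals
    refine q8_induction h2 hQ hiQ hjQ hi hj hij (M := fun y => SignComm _ y) ?_ ?_ ?_
      (fun _ _ _ _ h h' => (h.symm.mul h'.symm).symm) (fun _ _ h => h.symm.neg.symm) y hy
  · exact Or.inl (by rw [one_mul, mul_one])
  · exact Or.inl rfl
  · exact hji.symm
  · exact Or.inl (by rw [one_mul, mul_one])
  · exact hji
  · exact Or.inl rfl

theorem q8_inv : ∀ x ∈ Q, x⁻¹ = x ∨ x⁻¹ = -x := by
  refine q8_induction h2 hQ hiQ hjQ hi hj hij (M := fun x => x⁻¹ = x ∨ x⁻¹ = -x) (Or.inl inv_one)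
    (Or.inr (inv_eq_neg hi)) (Or.inr (inv_eq_neg hj)) (fun x hx y hy h h' => ?_) (fun x _ h => ?_)
  · rw [_root_.mul_inv_rev]
    rcases h with h | h <;> rcases h' with h' | h' <;>
      rcases q8_signComm h2 hQ hiQ hjQ hi hj hij y hy x hx with e | e <;> simp [h, h', e]
  · have e : (-x)⁻¹ = -x⁻¹ := inv_eq_of_mul_eq_one_right (by rw [neg_mul_neg, mul_inv_cancel])
    rcases h with h | h <;> simp [e, h]

/-- An element of square `-1` other than `±i`, `±j`. -/
theorem q8_third {k : SL(2, F)} (hk : k ∈ Q) (hk2 : k * k = -1) (h1 : k ≠ i) (h3 : k ≠ -i)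
    (h4 : k ≠ j) (h5 : k ≠ -j) : k = i * j ∨ k = -(i * j) := by
  obtain ⟨e, hl⟩ := q8_cases h2 hQ hiQ hjQ hi hj hij
  rcases hl k hk with h | h | h | h | h | h | h | h
  · rw [h, one_mul] at hk2; exact absurd hk2.symm (neg_one_ne_one h2)
  · exact absurd h h1
  · rw [h] at hk2; simp at hk2; exact absurd hk2.symm (neg_one_ne_one h2)
  · exact absurd h h3
  · exact absurd h h4
  · exact Or.inr (h.trans e)
  · exact absurd h h5
  · exact Or.inl (by rw [h, e, neg_neg])

end Cfsg.Lib.Fusion.PSpTwo
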